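import Cfsg.Agent.Lib.ConwayJ.Coord
import Cfsg.Agent.S0051

/-!
An isomorphism of large subgroups of two centralisers extends to the centralisers.
-/

set_option autoImplicit false
set_option linter.unusedSectionVars false

namespace CfsgLib.ConwayType

open QuadraticMap Module CfsgLargeExtra CfsgLib.ConwayJ
open CfsgLib.HallJankoType (mem_cent conj_fix_iff)

variable {G G' : Type*} [Group G] [Group G'] [Finite G'] {z : G} {Q : Subgroup G} {π : G → V} {M : G → O8}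
  {z' : G'} {Q' : Subgroup G'} {π' : G' → V} {M' : G' → O8}

namespace ST

variable (h' : ST z' Q' π' M')
include h'

/-- A functional on the vectors is a pairing. -/
theorem exists_rep (φ : V → Bool) (hφ : ∀ u v, φ (u + v) = xor (φ u) (φ v)) : ∃ v, ∀ u, bf v u = bz (φ u) := by
  have p2 : ∀ k < 4, 2 ^ k < 16 := fun k hk => Nat.pow_lt_pow_right (m := k) (n := 4) (by norm_num) hk
  let vl := Nat.ofBits fun k : Fin 4 => φ (vV (2 ^ k.val) 0)
  let vf := Nat.ofBits fun k : Fin 4 => φ (vV 0 (2 ^ k.val))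
  have hl : vl < 16 := Nat.ofBits_lt_two_pow _
  have hf : vf < 16 := Nat.ofBits_lt_two_pow _
  have h0 : φ 0 = false := by
    have := hφ 0 0
    rwa [add_zero, Bool.xor_self] at this
  have eL : ∀ a < 16, φ (vV a 0) = dotN vl a := by
    intro a ha
    refine ext_lin (fun a b => xor a b) (fun a => φ (vV a 0)) (fun a => dotN vl a) ?_ ?_ ?_ ?_ ha
    · show φ (vV 0 0) = dotN vl 0
      rw [vV_zero, h0, (fN_zero_left vl hl).1]
    · intro a _ b _
      show φ (vV (a ^^^ b) 0) = _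
      rw [← hφ, vV_add, Nat.xor_self]
    · intro a ha b hb
      simp only [← dotN_comm hl ha, ← dotN_comm hl hb, ← dotN_comm hl (xor_lt16 ha hb), dotN_add ha hb hl]
    · intro k hk
      show φ _ = dotN vl (2 ^ k)
      rw [dotN_two_pow hl hk]
      simp only [vl, Nat.testBit_ofBits_lt _ _ hk]
  have eF : ∀ a < 16, φ (vV 0 a) = dotN vf a := by
    intro a ha
    refine ext_lin (fun a b => xor a b) (fun a => φ (vV 0 a)) (fun a => dotN vf a) ?_ ?_ ?_ ?_ ha
    · show φ (vV 0 0) = dotN vf 0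
      rw [vV_zero, h0, (fN_zero_left vf hf).1]
    · intro a _ b _
      show φ (vV 0 (a ^^^ b)) = _
      rw [← hφ, vV_add, Nat.xor_self]
    · intro a ha b hb
      simp only [← dotN_comm hf ha, ← dotN_comm hf hb, ← dotN_comm hf (xor_lt16 ha hb), dotN_add ha hb hf]
    · intro k hk
      show φ _ = dotN vf (2 ^ k)
      rw [dotN_two_pow hf hk]
      simp only [vf, Nat.testBit_ofBits_lt _ _ hk]
  refine ⟨vV vf vl, fun u => ?_⟩
  obtain ⟨a, ha, b, hb, rfl⟩ := vV_surj u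
  rw [show vV a b = vV a 0 + vV 0 b by rw [vV_add, Nat.xor_zero, Nat.zero_xor], hφ, eL a ha, eF b hb, bz_xor,
    vV_add, Nat.xor_zero, Nat.zero_xor, bf_vV hf hl ha hb]
  first
    | rw [dotN_comm hl ha]; abel
    | rw [dotN_comm ha hl]; abel

/-- Automorphisms that are trivial modulo the centre are inner. -/
theorem exists_inner (τ : G' → G') (hm : ∀ a ∈ Q', ∀ b ∈ Q', τ (a * b) = τ a * τ b)
    (hπ : ∀ a ∈ Q', τ a ∈ Q' ∧ π' (τ a) = π' a) (hz : τ z' = z') :
    ∃ q ∈ Q', ∀ a ∈ Q', τ a = q * a * q⁻¹ := by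
  classical
  have hcases : ∀ a ∈ Q', τ a = a ∨ τ a = a * z' := fun a ha => h'.π_eq ha (hπ a ha).1 (hπ a ha).2.symm
  have hne : ∀ a : G', a * z' ≠ a := fun a e => h'.es.ne (mul_eq_left.mp e)
  let d : G' → Bool := fun a => decide (τ a ≠ a)
  have hd : ∀ a ∈ Q', τ a = a * zp z' (d a) := fun a ha => by
    by_cases e : τ a = a
    · simp [d, e, zp]
    · simp [d, zp, (hcases a ha).resolve_left e, h'.es.ne]
  have hdm : ∀ a ∈ Q', ∀ b ∈ Q', d (a * b) = xor (d a) (d b) := by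
    intro a ha b hb
    have e := hd (a * b) (mul_mem ha hb)
    rw [hm a ha b hb, hd a ha, hd b hb,
      show a * zp z' (d a) * (b * zp z' (d b)) = a * (zp z' (d a) * b) * zp z' (d b) by group,
      ← (h'.zp_comm (h'.es.comm b hb) (d a)).eq,
      show a * (b * zp z' (d a)) * zp z' (d b) = a * b * (zp z' (d a) * zp z' (d b)) by group, ← h'.zp_xor,
      mul_right_inj] at e
    exact (h'.zp_inj e).symm
  have hdz : d z' = false := by simp [d, hz]
  choose r hrQ hr using h'.π_surj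
  have hdr : ∀ a ∈ Q', d a = d (r (π' a)) := fun a ha => by
    rcases h'.π_eq (hrQ (π' a)) ha (hr _) with e | e
    · exact congrArg d e
    · rw [congrArg d e, hdm _ (hrQ _) _ h'.es.mem, hdz, Bool.xor_false]
  obtain ⟨v, hv⟩ := h'.exists_rep (fun u => d (r u)) fun u w => by
    have hm' := mul_mem (hrQ u) (hrQ w)
    rw [← hdm _ (hrQ u) _ (hrQ w), hdr _ hm', h'.π_mul _ (hrQ u) _ (hrQ w), hr, hr]
  refine ⟨r v, hrQ v, fun a ha => ?_⟩
  rw [h'.conj_Q (hrQ v) ha, hr, hv, ← hdr a ha, hd a ha]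
  cases d a <;> simp [bz, zp]

end ST

/-- The order of the centraliser. -/
theorem ST.card_cz [Finite G] (h : ST z Q π M) : Nat.card ↥(Subgroup.centralizer ({z} : Set G)) = 512 * 174182400 := by
  classical
  let φ : ↥(Subgroup.centralizer ({z} : Set G)) →* O8 :=
    MonoidHom.mk' (fun c => M c) fun a b => h.M_mul _ _ (mem_cent.mp a.2) (mem_cent.mp b.2)
  have hr : φ.range = Om := by
    refine le_antisymm ?_ fun k hk => ?_
    · rintro _ ⟨c, rfl⟩; exact h.M_mem _ (mem_cent.mp c.2)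
    · obtain ⟨c, hc, rfl⟩ := h.M_surj k hk
      exact ⟨⟨c, mem_cent.mpr hc⟩, rfl⟩
  have hk : φ.ker = Q.subgroupOf (Subgroup.centralizer ({z} : Set G)) := by
    ext c
    rw [MonoidHom.mem_ker, Subgroup.mem_subgroupOf]
    exact h.M_ker _ (mem_cent.mp c.2)
  rw [← φ.ker.card_mul_index, Subgroup.index_ker, hr, hk,
    Nat.card_congr (Subgroup.subgroupOfEquivOfLe (fun q hq => mem_cent.mpr (h.es.comm q hq))).toEquiv, h.card, card_Om]

/-- An isomorphism of large subgroups extends to the centralisers. -/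
theorem exists_ext [Finite G] (h : ST z Q π M) (h' : ST z' Q' π' M') (D : Subgroup G)
    (hQD : Q ≤ D) (hDz : D ≤ Subgroup.centralizer ({z} : Set G)) (hodd : Odd (D.relIndex (Subgroup.centralizer {z})))
    (ρ : ↥D →* G') (hρ : Function.Injective ρ) (himg : ∀ d : ↥D, ρ d ∈ Q' ↔ (d : G) ∈ Q)
    (hρz : ρ ⟨z, hQD h.es.mem⟩ = z') (hnt : ∀ δ : ↥D →* G', (∀ d, δ d = 1 ∨ δ d = z') → ∀ d, δ d = 1) :
    ∃ ψ : ↥(Subgroup.centralizer ({z} : Set G)) ≃* ↥(Subgroup.centralizer ({z'} : Set G')),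
      ∀ d : ↥D, (ψ ⟨d, hDz d.2⟩ : G') = ρ d := by
  classical
  set C := Subgroup.centralizer ({z} : Set G) with hC
  set C' := Subgroup.centralizer ({z'} : Set G') with hC'
  have hQC : ∀ {q}, q ∈ Q → q * z = z * q := fun {q} hq => h.es.comm q hq
  let r : G → G' := fun a => if ha : a ∈ D then ρ ⟨a, ha⟩ else 1
  have r_eq : ∀ d : ↥D, r d = ρ d := fun d => by simp [r]
  have r_mul : ∀ {a b}, a ∈ D → b ∈ D → r (a * b) = r a * r b := fun {a b} ha hb => by
    simp only [r, dif_pos ha, dif_pos hb, dif_pos (mul_mem ha hb)]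
    exact map_mul ρ ⟨a, ha⟩ ⟨b, hb⟩
  have rQ : ∀ {a}, a ∈ Q → r a ∈ Q' := fun {a} ha => by
    rw [show r a = ρ ⟨a, hQD ha⟩ from r_eq ⟨a, hQD ha⟩]; exact (himg _).mpr ha
  have r_z : r z = z' := (r_eq ⟨z, _⟩).trans hρz
  have r_inj : ∀ {a b}, a ∈ D → b ∈ D → r a = r b → a = b := fun {a b} ha hb e => by
    simp only [r, dif_pos ha, dif_pos hb] at e
    exact congrArg Subtype.val (hρ e)
  have r_surj : ∀ a' ∈ Q', ∃ a ∈ Q, r a = a' := by
    let f : ↥Q → ↥Q' := fun a => ⟨r a, rQ a.2⟩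
    have hf : Function.Injective f := fun a b e => Subtype.ext (r_inj (hQD a.2) (hQD b.2) (congrArg Subtype.val e))
    intro a' ha'
    obtain ⟨a, ha⟩ := ((Nat.bijective_iff_injective_and_card f).mpr ⟨hf, by rw [h.card, h'.card]⟩).2 ⟨a', ha'⟩
    exact ⟨a, a.2, congrArg Subtype.val ha⟩
  -- the isometry
  choose s hsQ hs using h.π_surj
  let U0 : V → V := fun v => π' (r (s v))
  have hU : ∀ {a}, a ∈ Q → π' (r a) = U0 (π a) := fun {a} ha => by
    rcases h.π_eq (hsQ (π a)) ha (hs _) with e | e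
    · exact congrArg (fun t => π' (r t)) e
    · rw [congrArg (fun t => π' (r t)) e, r_mul (hQD (hsQ _)) (hQD h.es.mem), r_z, h'.π_mul_z (rQ (hsQ _))]
  have hadd : ∀ u v, U0 (u + v) = U0 u + U0 v := fun u v => by
    have e := hU (mul_mem (hsQ u) (hsQ v))
    rw [h.π_mul _ (hsQ u) _ (hsQ v), hs, hs] at e
    rw [← e, r_mul (hQD (hsQ u)) (hQD (hsQ v)), h'.π_mul _ (rQ (hsQ u)) _ (rQ (hsQ v))]
  have hinj : Function.Injective U0 := by
    intro u v e
    obtain ⟨p, hp, hpe⟩ : ∃ p ∈ Q, r p = r (s u) * r (s v) :=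
      ⟨s u * s v, mul_mem (hsQ u) (hsQ v), r_mul (hQD (hsQ u)) (hQD (hsQ v))⟩
    have h0 : π' (r (s u * s v)) = 0 := by
      rw [r_mul (hQD (hsQ u)) (hQD (hsQ v)), h'.π_mul _ (rQ (hsQ u)) _ (rQ (hsQ v))]
      show U0 u + U0 v = 0
      rw [e, V_add_self]
    have hm := mul_mem (hsQ u) (hsQ v)
    have h1 : π (s u * s v) = 0 := by
      rcases h'.π_ker _ (rQ hm) h0 with q | q
      · rw [r_inj (hQD hm) (one_mem D) (q.trans (by simp [r, one_mem D]; exact (map_one ρ).symm)), h.π_one]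
      · rw [r_inj (hQD hm) (hQD h.es.mem) (q.trans r_z.symm), h.π_z]
    rw [h.π_mul _ (hsQ u) _ (hsQ v), hs, hs] at h1
    exact eq_of_V h1
  let fU : V →ₗ[F2] V :=
    { toFun := U0
      map_add' := hadd
      map_smul' := fun c v => by
        rcases F2_cases c with rfl | rfl
        · simp only [RingHom.id_apply, zero_smul]
          have := hadd 0 0
          rw [add_zero] at this
          exact left_eq_add.mp this
        · simp only [RingHom.id_apply, one_smul] }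
  let eU := LinearEquiv.ofBijective fU (Finite.injective_iff_bijective.mp hinj)
  let U : O8 := ⟨eU, fun v => by
    show qf (U0 v) = qf v
    have hiff : qf (U0 v) = 0 ↔ qf v = 0 := by
      conv_rhs => rw [← hs v, ← h.sq _ (hsQ v)]
      rw [← h'.sq _ (rQ (hsQ v)), ← r_mul (hQD (hsQ v)) (hQD (hsQ v))]
      constructor
      · intro e
        exact r_inj (hQD (mul_mem (hsQ v) (hsQ v))) (one_mem D) (e.trans (by simp [r, one_mem D]; exact (map_one ρ).symm))
      · intro e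
        rw [e]; simp [r, one_mem D]; exact map_one ρ
    rcases F2_cases (qf (U0 v)) with a | a <;> rcases F2_cases (qf v) with c | c <;> rw [a, c]
    · rw [hiff.mp a] at c; exact absurd c zero_ne_one
    · rw [hiff.mpr c] at a; exact absurd a zero_ne_one⟩
  have hUv : ∀ v, U.1 v = U0 v := fun _ => rfl
  let Rel : Subgroup (↥C × ↥C') :=
    { carrier := {p | ∀ a ∈ Q, r ((p.1 : G) * a * (p.1 : G)⁻¹) = (p.2 : G') * r a * (p.2 : G')⁻¹}
      one_mem' := fun a _ => by simp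
      mul_mem' := fun {p p'} hp hp' a ha => by
        have e2 := hp' a ha
        have hm := h.nor_mem (mem_cent.mp p'.1.2) ha
        simp only [Prod.fst_mul, Prod.snd_mul, Subgroup.coe_mul]
        rw [show (p.1 : G) * p'.1 * a * ((p.1 : G) * p'.1)⁻¹ = (p.1 : G) * ((p'.1 : G) * a * (p'.1 : G)⁻¹) * (p.1 : G)⁻¹
          by group, hp _ hm, e2]
        group
      inv_mem' := fun {p} hp a ha => by
        have hci : ((p.1 : G)⁻¹) * z = z * (p.1 : G)⁻¹ := (Commute.inv_left (mem_cent.mp p.1.2)).eq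
        have e1 := hp _ (h.nor_mem hci ha)
        simp only [Prod.fst_inv, Prod.snd_inv, InvMemClass.coe_inv]
        rw [show (p.1 : G) * ((p.1 : G)⁻¹ * a * ((p.1 : G)⁻¹)⁻¹) * (p.1 : G)⁻¹ = a by group] at e1
        rw [e1]
        group }
  have memRel : ∀ p, p ∈ Rel ↔ ∀ a ∈ Q, r ((p.1 : G) * a * (p.1 : G)⁻¹) = (p.2 : G') * r a * (p.2 : G')⁻¹ :=
    fun _ => Iff.rfl
  have hgraph : ∀ d : ↥D, ((⟨d, hDz d.2⟩, ⟨ρ d, mem_cent.mpr (by
      rw [← hρz, ← map_mul, ← map_mul]; exact congrArg ρ (Subtype.ext (mem_cent.mp (hDz d.2))))⟩) : ↥C × ↥C') ∈ Rel := by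
    intro d a ha
    show r ((d : G) * a * (d : G)⁻¹) = _
    rw [r_mul (mul_mem d.2 (hQD ha)) (inv_mem d.2), r_mul d.2 (hQD ha), r_eq]
    simp only [r, dif_pos (inv_mem d.2)]
    exact congrArg (_ * ·) (map_inv ρ d)
  have hfst : ∀ c : ↥C, ∃ c' : ↥C', (c, c') ∈ Rel := by
    intro c
    have hcz := mem_cent.mp c.2
    obtain ⟨c1, hc1, hM1⟩ := h'.M_surj (U * M c * U⁻¹) (Om_conj (h.M_mem c hcz) U)
    have hrec : ∀ a' ∈ Q', ∃ a ∈ Q, r a = a' := r_surj
    choose! back hbQ hb using hrec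
    let τ : G' → G' := fun a' => c1⁻¹ * r ((c : G) * back a' * (c : G)⁻¹) * c1
    have hci : c1⁻¹ * z' = z' * c1⁻¹ := (Commute.inv_left hc1).eq
    have hπτ : ∀ a' ∈ Q', τ a' ∈ Q' ∧ π' (τ a') = π' a' := by
      intro a' ha'
      have hq := rQ (h.nor_mem hcz (hbQ a' ha'))
      have e : τ a' = c1⁻¹ * r ((c : G) * back a' * (c : G)⁻¹) * c1⁻¹⁻¹ := by rw [inv_inv]
      refine ⟨e ▸ h'.nor_mem hci hq, ?_⟩
      rw [e, h'.M_act _ hci _ hq, hU (h.nor_mem hcz (hbQ a' ha')), h.M_act _ hcz _ (hbQ a' ha'), h'.M_inv hc1, hM1]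
      show (U * M c * U⁻¹)⁻¹.1 (U.1 ((M c).1 (π (back a')))) = π' a'
      conv_rhs => rw [← hb a' ha', hU (hbQ a' ha'), ← hUv]
      rw [show (U * M c * U⁻¹)⁻¹ = U * (M c)⁻¹ * U⁻¹ by group]
      show U.1 ((M c).1.symm (U.1.symm (U.1 ((M c).1 (π (back a')))))) = _
      rw [LinearEquiv.symm_apply_apply, LinearEquiv.symm_apply_apply]
    have hback : ∀ {a}, a ∈ Q → back (r a) = a := fun {a} ha =>
      r_inj (hQD (hbQ _ (rQ ha))) (hQD ha) (hb _ (rQ ha))
    obtain ⟨q, hq, hqe⟩ := h'.exists_inner τ (fun a ha b hb' => by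
      obtain ⟨a0, ha0, rfl⟩ := r_surj a ha
      obtain ⟨b0, hb0, rfl⟩ := r_surj b hb'
      show c1⁻¹ * r ((c : G) * back (r a0 * r b0) * (c : G)⁻¹) * c1 = _
      rw [← r_mul (hQD ha0) (hQD hb0), hback (mul_mem ha0 hb0),
        show (c : G) * (a0 * b0) * (c : G)⁻¹ = (c : G) * a0 * (c : G)⁻¹ * ((c : G) * b0 * (c : G)⁻¹) by group,
        r_mul (hQD (h.nor_mem hcz ha0)) (hQD (h.nor_mem hcz hb0))]
      show _ = c1⁻¹ * r ((c : G) * back (r a0) * (c : G)⁻¹) * c1 * (c1⁻¹ * r ((c : G) * back (r b0) * (c : G)⁻¹) * c1)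
      rw [hback ha0, hback hb0]
      group) hπτ (by
      show c1⁻¹ * r ((c : G) * back z' * (c : G)⁻¹) * c1 = z'
      rw [← r_z, hback h.es.mem, conj_fix_iff.mpr hcz, r_z, mul_assoc, ← hc1, inv_mul_cancel_left])
    refine ⟨⟨c1 * q, mem_cent.mpr (Commute.mul_left hc1 (h'.es.comm q hq))⟩, fun a ha => ?_⟩
    show r ((c : G) * a * (c : G)⁻¹) = c1 * q * r a * (c1 * q)⁻¹
    have := hqe (r a) (rQ ha)
    simp only [τ, hback ha] at this
    rw [show c1 * q * r a * (c1 * q)⁻¹ = c1 * (q * r a * q⁻¹) * c1⁻¹ by group, ← this]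
    group
  have hker : ∀ c' : ↥C', ((1 : ↥C), c') ∈ Rel → (c' : G') = 1 ∨ (c' : G') = z' := by
    intro c' hc'
    refine h'.es.cen _ fun q hq => ?_
    obtain ⟨a, ha, rfl⟩ := r_surj q hq
    have := hc' a ha
    simp only [OneMemClass.coe_one, one_mul, inv_one, mul_one] at this
    exact (eq_mul_inv_iff_mul_eq.mp this).symm
  have hsnd : ∀ c' : ↥C', ∃ c : ↥C, (c, c') ∈ Rel := by
    intro c'
    have hcz := mem_cent.mp c'.2
    have hm : U⁻¹ * M' c' * U ∈ Om := by simpa using Om_conj (h'.M_mem c' hcz) U⁻¹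
    obtain ⟨c, hc, hMc⟩ := h.M_surj _ hm
    obtain ⟨c1, hc1⟩ := hfst ⟨c, mem_cent.mpr hc⟩
    have hc1z := mem_cent.mp c1.2
    have hMM : M' c1 = M' c' := by
      have : M' c1 = U * M c * U⁻¹ := by
        refine Subtype.ext (LinearEquiv.ext fun w => ?_)
        obtain ⟨u, rfl⟩ := U.1.surjective w
        show (M' c1).1 (U.1 u) = U.1 ((M c).1 (U.1.symm (U.1 u)))
        rw [LinearEquiv.symm_apply_apply, hUv, hUv, ← hs u, ← hU (hsQ u), ← h'.M_act _ hc1z _ (rQ (hsQ u)),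
          ← hc1 _ (hsQ u), hU (h.nor_mem hc (hsQ u)), h.M_act c hc _ (hsQ u)]
      rw [this, hMc]; group
    have hci : (c1 : G')⁻¹ * z' = z' * (c1 : G')⁻¹ := (Commute.inv_left hc1z).eq
    have hq : (c1 : G')⁻¹ * c' ∈ Q' := (h'.M_ker _ (Commute.mul_left hci hcz)).mp (by
      rw [h'.M_mul _ _ hci hcz, h'.M_inv hc1z, hMM, inv_mul_cancel])
    obtain ⟨a, ha, hae⟩ := r_surj _ hq
    refine ⟨⟨c, mem_cent.mpr hc⟩ * ⟨a, mem_cent.mpr (hQC ha)⟩, ?_⟩
    have hg := hgraph ⟨a, hQD ha⟩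
    have := mul_mem hc1 hg
    convert this using 1
    refine Prod.ext rfl (Subtype.ext ?_)
    show (c' : G') = (c1 : G') * ρ ⟨a, hQD ha⟩
    rw [← r_eq ⟨a, hQD ha⟩, hae, mul_inv_cancel_left]
  -- the central extension splits
  let p1 : ↥Rel →* ↥C := (MonoidHom.fst _ _).comp Rel.subtype
  let Z := p1.ker
  have hp1 : Function.Surjective p1 := fun c => (hfst c).elim fun c' hc' => ⟨⟨(c, c'), hc'⟩, rfl⟩
  have hZmem : ∀ p ∈ Z, (p : ↥C × ↥C').1 = 1 ∧
      ((((p : ↥C × ↥C').2 : ↥C') : G') = 1 ∨ (((p : ↥C × ↥C').2 : ↥C') : G') = z') := fun p hp => by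
    have h1 : (p : ↥C × ↥C').1 = 1 := MonoidHom.mem_ker.mp hp
    refine ⟨h1, hker _ ?_⟩
    have := p.2
    rw [show (p : ↥C × ↥C') = (1, (p : ↥C × ↥C').2) from Prod.ext h1 rfl] at this
    exact this
  have hZc : ∀ p ∈ Z, ∀ a : ↥Rel, p * a = a * p := fun p hp a => by
    obtain ⟨e1, e2⟩ := hZmem p hp
    refine Subtype.ext (Prod.ext ?_ (Subtype.ext ?_))
    · show (p : ↥C × ↥C').1 * _ = _ * (p : ↥C × ↥C').1
      rw [e1, one_mul, mul_one]
    · show (((p : ↥C × ↥C').2 : ↥C') : G') * _ = _ * (((p : ↥C × ↥C').2 : ↥C') : G')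
      rcases e2 with e | e <;> rw [e]
      · rw [one_mul, mul_one]
      · exact (mem_cent.mp (a : ↥C × ↥C').2.2).symm
  have : IsMulCommutative ↥Z := ⟨⟨fun a b => Subtype.ext (hZc a a.2 b)⟩⟩
  let zP : ↥Rel := ⟨(1, ⟨z', mem_cent.mpr rfl⟩), fun a ha => by
    show r ((1 : G) * a * (1 : G)⁻¹) = z' * r a * z'⁻¹
    rw [one_mul, inv_one, mul_one, ← h'.es.comm _ (rQ ha), mul_inv_cancel_right]⟩
  have hzPZ : zP ∈ Z := MonoidHom.mem_ker.mpr rfl
  have hZcard : Nat.card ↥Z = 2 := by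
    refine le_antisymm ?_ ?_
    · have : Function.Injective fun p : ↥Z => decide ((((p : ↥Rel) : ↥C × ↥C').2 : G') = 1) := by
        intro a b hab
        obtain ⟨a1, a2⟩ := hZmem _ a.2
        obtain ⟨b1, b2⟩ := hZmem _ b.2
        refine Subtype.ext (Subtype.ext (Prod.ext (a1.trans b1.symm) (Subtype.ext ?_)))
        simp only [decide_eq_decide] at hab
        rcases a2 with e | e
        · rw [e, hab.mp e]
        · rcases b2 with e' | e'
          · exact absurd (e.symm.trans (hab.mpr e')) h'.es.ne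
          · rw [e, e']
      simpa using Nat.card_le_card_of_injective _ this
    · have : Nontrivial ↥Z := ⟨⟨zP, hzPZ⟩, 1, fun e => h'.es.ne (congrArg
        (fun p : ↥Z => ((((p : ↥Rel) : ↥C × ↥C').2 : ↥C') : G')) e)⟩
      exact Finite.one_lt_card
  let W : Subgroup ↥Rel :=
    { carrier := {p | ∃ d : ↥D, (((p : ↥C × ↥C').1 : ↥C) : G) = d ∧ (((p : ↥C × ↥C').2 : ↥C') : G') = ρ d}
      one_mem' := ⟨1, rfl, (map_one ρ).symm⟩
      mul_mem' := fun {p p'} ⟨d, a, b⟩ ⟨d', a', b'⟩ => ⟨d * d', by simp [a, a'], by simp [b, b']⟩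
      inv_mem' := fun {p} ⟨d, a, b⟩ => ⟨d⁻¹, by simp [a], by simp [b]⟩ }
  have hsup : Z ⊔ W = (D.subgroupOf C).comap p1 := by
    refine le_antisymm (sup_le (fun p hp => ?_) (fun p ⟨d, hd, _⟩ => ?_)) fun p hp => ?_
    · rw [Subgroup.mem_comap, MonoidHom.mem_ker.mp hp]; exact one_mem _
    · show ((p1 p : ↥C) : G) ∈ D
      exact hd.symm ▸ d.2
    · have hd : ((p1 p : ↥C) : G) ∈ D := hp
      let w : ↥Rel := ⟨_, hgraph ⟨_, hd⟩⟩
      have hw : w ∈ W := ⟨⟨_, hd⟩, rfl, rfl⟩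
      rw [show p = p * w⁻¹ * w by group]
      refine Subgroup.mul_mem_sup (MonoidHom.mem_ker.mpr ?_) hw
      rw [map_mul, map_inv, mul_inv_eq_one]
      exact Subtype.ext rfl
  have hidx : ((D.subgroupOf C).comap p1).index = D.relIndex C := Subgroup.index_comap_of_surjective _ hp1
  obtain ⟨K, hK⟩ := Cfsg.Agent.S0051.result Z ((D.subgroupOf C).comap p1) (hsup ▸ le_sup_left)
    (by rw [hidx, hZcard]; exact Nat.coprime_two_left.mpr hodd) W (hsup ▸ le_sup_right)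
    (by
      rw [eq_bot_iff]
      rintro p ⟨⟨d, hd, hd'⟩, hp⟩
      refine Subgroup.mem_bot.mpr (Subtype.ext (Prod.ext (MonoidHom.mem_ker.mp hp) (Subtype.ext ?_)))
      have : d = 1 := Subtype.ext (hd.symm.trans (congrArg Subtype.val (MonoidHom.mem_ker.mp hp)))
      rw [hd', this, map_one]
      rfl)
    hsup
  let f : ↥K →* ↥C := p1.comp K.subtype
  have hf : Function.Bijective f := by
    refine ⟨?_, fun c => ?_⟩
    · rw [injective_iff_map_eq_one]
      intro a ha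
      exact Subtype.ext (Subgroup.mem_bot.mp (hK.disjoint.le_bot ⟨MonoidHom.mem_ker.mpr ha, a.2⟩))
    · obtain ⟨p, hp⟩ := hp1 c
      obtain ⟨⟨a, b⟩, hab⟩ := (hK.symm).surjective p
      refine ⟨a, ?_⟩
      have e : (a : ↥Rel) * (b : ↥Rel) = p := hab
      rw [← hp, ← e, map_mul, MonoidHom.mem_ker.mp b.2, mul_one]
      rfl
  let fe := MulEquiv.ofBijective f hf
  let ψ0 : ↥C →* ↥C' := ((MonoidHom.snd _ _).comp (Rel.subtype.comp K.subtype)).comp fe.symm.toMonoidHom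
  have hψmem : ∀ c : ↥C, (c, ψ0 c) ∈ Rel := fun c => by
    have e : f (fe.symm c) = c := fe.apply_symm_apply c
    have := ((fe.symm c : ↥K) : ↥Rel).2
    rwa [show (((fe.symm c : ↥K) : ↥Rel) : ↥C × ↥C') = (c, ψ0 c) from Prod.ext e rfl] at this
  have hdiff : ∀ d : ↥D, (ρ d)⁻¹ * (ψ0 ⟨d, hDz d.2⟩ : G') = 1 ∨ (ρ d)⁻¹ * (ψ0 ⟨d, hDz d.2⟩ : G') = z' := by
    intro d
    have hm := mul_mem (inv_mem (hgraph d)) (hψmem ⟨d, hDz d.2⟩)
    rw [Prod.inv_mk, Prod.mk_mul_mk, inv_mul_cancel] at hm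
    exact hker _ hm
  let δ : ↥D →* G' := MonoidHom.mk' (fun d => (ρ d)⁻¹ * (ψ0 ⟨d, hDz d.2⟩ : G')) fun d d' => by
    show (ρ (d * d'))⁻¹ * (ψ0 ⟨(d * d' : ↥D), _⟩ : G') = _
    rw [show (⟨((d * d' : ↥D) : G), hDz (d * d').2⟩ : ↥C) = ⟨d, hDz d.2⟩ * ⟨d', hDz d'.2⟩ from rfl, map_mul,
      map_mul, Subgroup.coe_mul, mul_inv_rev]
    have hcen : Commute ((ρ d)⁻¹ * (ψ0 ⟨d, hDz d.2⟩ : G')) (ρ d')⁻¹ := by
      rcases hdiff d with e | e <;> rw [e]
      · exact Commute.one_left _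
      · refine (Commute.inv_left ?_).symm
        show ρ d' * z' = z' * ρ d'
        rw [← hρz, ← map_mul, ← map_mul]
        exact congrArg ρ (Subtype.ext (mem_cent.mp (hDz d'.2)))
    rw [← mul_assoc ((ρ d)⁻¹ * (ψ0 ⟨d, hDz d.2⟩ : G')), hcen.eq]
    group
  have hδ := hnt δ hdiff
  have hext : ∀ d : ↥D, (ψ0 ⟨d, hDz d.2⟩ : G') = ρ d := fun d => (inv_mul_eq_one.mp (hδ d)).symm
  have hψz : (ψ0 ⟨z, hDz (hQD h.es.mem)⟩ : G') = z' := (hext ⟨z, hQD h.es.mem⟩).trans hρz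
  have hψ : Function.Bijective ψ0 := by
    refine ⟨?_, fun c' => ?_⟩
    · rw [injective_iff_map_eq_one]
      intro c hc
      have hm := hψmem c
      rw [hc] at hm
      have hcent : ∀ q ∈ Q, (c : G) * q = q * (c : G) := fun q hq => by
        have e := hm q hq
        simp only [OneMemClass.coe_one, one_mul, inv_one, mul_one] at e
        exact conj_fix_iff.mp (r_inj (hQD (h.nor_mem (mem_cent.mp c.2) hq)) (hQD hq) e)
      rcases h.es.cen _ hcent with e | e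
      · exact Subtype.ext e
      · exfalso
        refine h'.es.ne ?_
        rw [← hψz, show (⟨z, _⟩ : ↥C) = c from Subtype.ext e.symm, hc]
        rfl
    · obtain ⟨c, hc⟩ := hsnd c'
      have hm := mul_mem (inv_mem (hψmem c)) hc
      rw [Prod.inv_mk, Prod.mk_mul_mk, inv_mul_cancel] at hm
      rcases hker _ hm with e | e
      · refine ⟨c, Subtype.ext ?_⟩
        rw [Subgroup.coe_mul, InvMemClass.coe_inv, inv_mul_eq_one] at e
        exact e
      · refine ⟨c * ⟨z, hDz (hQD h.es.mem)⟩, Subtype.ext ?_⟩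
        rw [Subgroup.coe_mul, InvMemClass.coe_inv, inv_mul_eq_iff_eq_mul] at e
        rw [map_mul, Subgroup.coe_mul, hψz, e]
  exact ⟨MulEquiv.ofBijective ψ0 hψ, hext⟩

end CfsgLib.ConwayType
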