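import Cfsg.Agent.Lib.ConwayRec.Rules
import Cfsg.Agent.Lib.ConwayIso.Extend
import Cfsg.Agent.Lib.ConwayIso.Model
import Cfsg.Agent.Lib.Golay.ClassC

/-!
The centraliser of the sign change of the model is generated by monomial maps and atoms.
-/

set_option autoImplicit false
set_option maxRecDepth 8000

namespace CfsgLib.ConwayIso

open Cfsg CfsgGolay CfsgLeech CfsgLib.ConwayRec CfsgLib.ConwayJ CfsgLib.ConwayType
open CfsgLib.CoTwoMult (runC runC_spec axCode ax_vec forceN forceN_eq)
open CfsgLib.HallJankoType (mem_cent conj_fix_iff)
open scoped Pointwise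

attribute [local irreducible] codeL octadL dodecadL slpCodes mco mv pullN nmM mc mperm octM

/-- Atoms of the centraliser. -/
def atomL : List Mon := [
  (963901813773497600861214474505344067, 0),
  (963901813773497600861214474505344067, 3715070),
  (154652553140215063381880711286507970, 0),
  (154652553140215063381880711286507970, 4845570),
  (974176297668868919046653974874375527, 0),
  (974176297668868919046653974874375527, 3715070),
  (457554072544709526878825373910634742, 0),
  (457554072544709526878825373910634742, 3715070),
  (6557892563982694201421284940296274, 0),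
  (6557892563982694201421284940296274, 3715070),
  (668070894907291547183267447706330839, 0),
  (668070894907291547183267447706330839, 2838523),
  (831318977644737144884897937545988311, 0),
  (831318977644737144884897937545988311, 6606831),
  (392034481725082865637532967883195443, 0),
  (392034481725082865637532967883195443, 3715070),
  (795162612722544487790628126724669751, 0),
  (795162612722544487790628126724669751, 3715070),
  (964535324690447773593789836601609349, 0),
  (964535324690447773593789836601609349, 3715070),
  (16133685463150747964459096394223243, 0),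
  (16133685463150747964459096394223243, 4845570),
  (138953855177904563425767845299622454, 0),
  (138953855177904563425767845299622454, 3715070),
  (251398849798543065684914908833601824, 0),
  (251398849798543065684914908833601824, 2838523),
  (938149200555277142368563683927807532, 0),
  (938149200555277142368563683927807532, 4845570),
  (964646204400945391688466933418182150, 0),
  (964646204400945391688466933418182150, 2838523),
  (154734117389855649861407030317910369, 0),
  (154734117389855649861407030317910369, 4845570),
  (196313454496027734491934243715026306, 0),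
  (196313454496027734491934243715026306, 2838523),
  (223885567312650142439710449505702582, 0),
  (223885567312650142439710449505702582, 3715070),
  (937766764264888486598029464549633358, 0),
  (937766764264888486598029464549633358, 3715070),
  (379132118831078904783521208656255726, 0),
  (379132118831078904783521208656255726, 3715070),
  (10919763908880621017291423599800466, 0),
  (10919763908880621017291423599800466, 4845570),
  (686944240932617667028035598544049858, 0),
  (686944240932617667028035598544049858, 3715070),
  (154783127183537129093043121402618146, 0),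
  (154783127183537129093043121402618146, 4845570)]

/-- Their inverses. -/
def atomI : List Mon := [
  (976256100095219974107344323126232180, 0),
  (976256100095219974107344323126232180, 3109815),
  (920866123445071736766172072370733415, 0),
  (920866123445071736766172072370733415, 6263615),
  (959740300989930729620723351775496366, 0),
  (959740300989930729620723351775496366, 8305274),
  (457554072544709526878825373910634742, 0),
  (457554072544709526878825373910634742, 5770785),
  (263042689424274175629540394070705847, 0),
  (263042689424274175629540394070705847, 1352353),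
  (2164005021365647733343071810017555, 0),
  (2164005021365647733343071810017555, 72588),
  (12199404159091520879481764642818678, 0),
  (12199404159091520879481764642818678, 3739786),
  (503148281570539284998365704262759477, 0),
  (503148281570539284998365704262759477, 6755839),
  (25203099171000803498800057676177547, 0),
  (25203099171000803498800057676177547, 7698223),
  (979097920210933980556694846906188460, 0),
  (979097920210933980556694846906188460, 4189530),
  (849225847139331236518673235943141719, 0),
  (849225847139331236518673235943141719, 5329044),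
  (540611355316279808928199801351946918, 0),
  (540611355316279808928199801351946918, 4213932),
  (792690486339770315428674682191516352, 0),
  (792690486339770315428674682191516352, 4243818),
  (902250500446156661910304595625027116, 0),
  (902250500446156661910304595625027116, 418953),
  (979522934374266431048547130959731085, 0),
  (979522934374266431048547130959731085, 4060028),
  (939170061763061501717930936626808839, 0),
  (939170061763061501717930936626808839, 1827807),
  (935041193754654714174766557791584499, 0),
  (935041193754654714174766557791584499, 8312231),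
  (581590711202543725173237737956225233, 0),
  (581590711202543725173237737956225233, 4189530),
  (860752889178586947664417971228750288, 0),
  (860752889178586947664417971228750288, 4505735),
  (44795655527785022147177447130649710, 0),
  (44795655527785022147177447130649710, 2640465),
  (262594535322445703034892205400768055, 0),
  (262594535322445703034892205400768055, 1050548),
  (168161718870951897909228511851544839, 0),
  (168161718870951897909228511851544839, 3610628),
  (940351227784983554610436152104812900, 0),
  (940351227784983554610436152104812900, 5108207)]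

/-- The word takes the last axis to a vector with two entries. -/
noncomputable def farW (W : List Mon) : Bool :=
  forceN (runC (ConwayRec.wS W) (axCode 23)) fun r =>
    Nat.blt 0 r && Nat.ble 2 ((List.range 24).countP fun k => !(Nat.beq (papp (Nat.pred r) k) 16))

theorem far_not_mem {W : List Mon} (hW : VW W) (h : farW W = true) : ev1 W ∉ Out1.NI := by
  intro hm
  simp only [farW, forceN_eq, Bool.and_eq_true, Nat.blt_eq] at h
  obtain ⟨hpos, hc⟩ := h
  obtain ⟨g, hg, he⟩ := hm
  rw [← prj_ev0] at he
  have hk : ev0 W ∈ crossStab := by
    rcases OctInv.prj_eq.mp he with r | r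
    · exact r ▸ hg
    · rw [r]; exact mul_mem hg (Out1.center_le_cross negAut_central)
  obtain ⟨j, s, hs, hv⟩ := hk (ax none) ⟨none, 8, Or.inl rfl, ax_coe none⟩
  obtain ⟨r, hr⟩ := Nat.exists_eq_succ_of_ne_zero hpos.ne'
  rw [hr, Nat.pred_succ] at hc
  rw [ev0_spec hW, ← ax_vec, show idx (none : GolayPt) = 23 from rfl, runC_spec _ _ r hr] at hv
  have hle : ((List.range 24).countP fun k => !(Nat.beq (papp r k) 16)) ≤ 1 := by
    have hz : ∀ k < 24, (!(Nat.beq (papp r k) 16)) = true → k = idx j := by
      intro k hk hne
      by_contra hne'
      have := congrFun hv (pt k)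
      rw [vecN, idx_pt hk, Pi.single_eq_of_ne (fun e => hne' (by rw [← e, idx_pt hk]))] at this
      simp only [Bool.not_eq_true', Nat.beq_eq, beq_eq_false_iff_ne] at hne
      have h16 : papp r k = 16 := by omega
      rw [h16] at hne
      simp at hne
    rw [List.countP_eq_length_filter]
    rw [← List.toFinset_card_of_nodup ((List.nodup_range).filter _), Finset.card_le_one]
    intro a ha b hb
    simp only [List.mem_toFinset, List.mem_filter, List.mem_range] at ha hb
    rw [hz a ha.1 ha.2, hz b hb.1 hb.2]
  have := Nat.le_trans (Nat.le_of_ble_eq_true hc) hle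
  omega

theorem atoms_ok : ((List.range 46).all fun i =>
      okM (atomL.getD i oneM) && okM (atomI.getD i oneM) &&
      Nat.beq (mc (atomI.getD i oneM) (atomL.getD i oneM)).1 oneM.1 &&
      Nat.beq (mc (atomI.getD i oneM) (atomL.getD i oneM)).2 oneM.2 &&
      (YS.any fun y => Nat.beq (pullN (atomL.getD i oneM).1 y) zMask) &&
      ((List.range 46).all fun j => Nat.beq i j || farW [oneM, mc (atomI.getD i oneM) (atomL.getD j oneM), oneM])) = true := by
  decide +kernel

theorem z0_sg : z0 = sg zMask := by
  have hv : Valid (pid, zMask) := pid_valid (by decide) OZ_octad.1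
  rw [sg_el hv]
  rfl

/-- The monomial maps and the atoms generate the centraliser. -/
theorem cent_gen (L : Subgroup Spor.Co1)
    (hN : ∀ n : Spor.Co1, n ∈ Out1.NI → n * z0 = z0 * n → n ∈ L)
    (hA : ∀ n : Mon, Valid n → (∃ y ∈ YS, pullN n.1 y = zMask) →
      (mv n : Spor.Co1) * Out1.z * (mv n : Spor.Co1)⁻¹ ∈ L) :
    ∀ c : Spor.Co1, c * z0 = z0 * c → c ∈ L := by
  classical
  have := OctInv.co1_finite
  obtain ⟨Q0, π0, M0, D⟩ := exists_mdl_z0
  let C := Subgroup.centralizer ({z0} : Set Spor.Co1)
  let D0 := Out1.NI ⊓ C
  let L0 := L ⊓ C
  have hDL : D0 ≤ L0 := fun n hn =>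
    ⟨hN n (Subgroup.mem_inf.mp hn).1 (mem_cent.mp (Subgroup.mem_inf.mp hn).2), (Subgroup.mem_inf.mp hn).2⟩
  have hok := fun i (hi : i < 46) => List.all_eq_true.mp atoms_ok i (List.mem_range.mpr hi)
  simp only [Bool.and_eq_true, List.all_eq_true, List.mem_range, List.any_eq_true, Bool.or_eq_true, Nat.beq_eq] at hok
  let at' : ℕ → Spor.Co1 := fun i => (mv (atomL.getD i oneM) : Spor.Co1) * Out1.z * (mv (atomL.getD i oneM) : Spor.Co1)⁻¹
  have hatom : ∀ i < 46, at' i ∈ L0 := by
    intro i hi
    obtain ⟨⟨⟨⟨⟨h1, -⟩, -⟩, -⟩, y, hy, hyO⟩, -⟩ := hok i hi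
    have hv := Valid.of_ok h1
    refine ⟨hA _ hv ⟨y, hy, hyO⟩, ?_⟩
    show _ ∈ Subgroup.centralizer ({z0} : Set Spor.Co1)
    rw [z0_sg]
    exact atom_mem hv ⟨y, hy, hyO⟩
  have hz : Out1.z ∉ Out1.NI := Out1.z_not_mem
  have hsep : ∀ i < 46, at' i ∉ Out1.NI := fun i hi hm => hz (by
    have := mul_mem (mul_mem (inv_mem (mv (atomL.getD i oneM)).2) hm) (mv (atomL.getD i oneM)).2
    rwa [show (mv (atomL.getD i oneM) : Spor.Co1)⁻¹ * at' i * mv (atomL.getD i oneM) = Out1.z by
      simp only [at']; group] at this)
  have hpair : ∀ i < 46, ∀ j < 46, i ≠ j → (at' i)⁻¹ * at' j ∉ Out1.NI := by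
    intro i hi j hj hne hm
    obtain ⟨⟨⟨⟨⟨h1, h2⟩, e1⟩, e2⟩, -⟩, hrest⟩ := hok i hi
    obtain ⟨⟨⟨⟨⟨h3, -⟩, -⟩, -⟩, -⟩, -⟩ := hok j hj
    rcases hrest j hj with r | r
    · exact hne r
    have vi := Valid.of_ok h1
    have vi' := Valid.of_ok h2
    have vj := Valid.of_ok h3
    have hinv : (mv (atomI.getD i oneM) : Spor.Co1) = (mv (atomL.getD i oneM) : Spor.Co1)⁻¹ := by
      refine eq_inv_of_mul_eq_one_left ?_
      rw [← Subgroup.coe_mul, ← mv_mc vi' vi, show mc (atomI.getD i oneM) (atomL.getD i oneM) = oneM from
        Prod.ext e1 e2, mv_one]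
      rfl
    refine far_not_mem (W := [oneM, mc (atomI.getD i oneM) (atomL.getD j oneM), oneM]) ?_ r ?_
    · intro n hn
      simp only [List.mem_cons, List.not_mem_nil, or_false] at hn
      rcases hn with rfl | rfl | rfl
      exacts [one_valid, vi'.mc vj, one_valid]
    · simp only [ConwayRec.ev, Subgroup.subtype_apply, mv_one, OneMemClass.coe_one, mul_one, one_mul, mv_mc vi' vj,
        Subgroup.coe_mul, hinv]
      have := mul_mem (mul_mem (inv_mem (mv (atomL.getD i oneM)).2) hm) (mv (atomL.getD j oneM)).2
      rwa [show (mv (atomL.getD i oneM) : Spor.Co1)⁻¹ * ((at' i)⁻¹ * at' j) * mv (atomL.getD j oneM) =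
          Out1.z * ((mv (atomL.getD i oneM) : Spor.Co1)⁻¹ * mv (atomL.getD j oneM) * Out1.z) by
        simp only [at', mul_inv_rev, inv_inv, Out1.z_inv]; group] at this
  -- counting cosets
  let f : Option (Fin 46) → ↥L0 ⧸ (D0.subgroupOf L0) := fun o =>
    o.elim (QuotientGroup.mk 1) fun i => QuotientGroup.mk ⟨at' i, hatom i i.2⟩
  have hf : Function.Injective f := by
    intro a b hab
    rcases a with _ | i <;> rcases b with _ | j <;> simp only [f, Option.elim_none, Option.elim_some] at hab
    · rfl
    · rw [QuotientGroup.eq, inv_one, one_mul] at hab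
      exact absurd (Subgroup.mem_inf.mp hab).1 (hsep j j.2)
    · rw [QuotientGroup.eq, mul_one] at hab
      exact absurd (inv_mem_iff.mp (Subgroup.mem_inf.mp hab).1) (hsep i i.2)
    · rw [QuotientGroup.eq] at hab
      by_contra hne
      exact hpair i i.2 j j.2 (fun e => hne (congrArg some (Fin.ext e))) (Subgroup.mem_inf.mp hab).1
  have h47 : 47 ≤ (D0.subgroupOf L0).index := by
    rw [Subgroup.index_eq_card]
    refine le_trans ?_ (Nat.card_le_card_of_injective f hf)
    simp [Nat.card_eq_fintype_card]
  let T : Subgroup ↥M24 := MulAction.stabilizer M24 OZ ⊓ MulAction.stabilizer M24 OZ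
  let J : Subgroup Spor.Co1 := (T.comap Out1.perm).map Out1.NI.subtype
  have hJD : J ≤ D0 := by
    rintro _ ⟨m, hm, rfl⟩
    obtain ⟨d, hd, hmd⟩ := Out1.perm_spec m
    refine ⟨m.2, mem_cent.mpr (mul_inv_eq_iff_eq_mul.mp ?_)⟩
    show (m : Spor.Co1) * z0 * (m : Spor.Co1)⁻¹ = z0
    rw [hmd]
    exact (Out1.el_conj _ hd OZ_octad.1).trans (Out1.el_congr rfl (Subgroup.mem_inf.mp hm).1)
  have hJ : Nat.card ↥J = 2 ^ 11 * 322560 := by
    rw [Subgroup.card_map_of_injective (Subgroup.subtype_injective _)]
    have hT : Nat.card ↥T = 322560 := by
      have := joint_octad_card OZ_octad OZ_octad (v := 8) (n := 1) (by simp)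
        (by rw [Finset.inter_self]; exact card_of_mem_octads OZ_octad)
      change Nat.card ↥T * 1 = 322560 at this
      omega
    have h1 := (T.comap Out1.perm).card_mul_index
    have h2 := T.card_mul_index
    rw [Subgroup.index_comap_of_surjective _ Out1.perm_surjective, Out1.NI_card] at h1
    rw [hT, CfsgGolay.card_M24] at h2
    have hi : T.index = 759 := by omega
    rw [hi] at h1
    omega
  have h1 := (D0.subgroupOf L0).card_mul_index
  rw [Nat.card_congr (Subgroup.subgroupOfEquivOfLe hDL).toEquiv] at h1
  obtain ⟨a, ha⟩ := Subgroup.card_dvd_of_le hJD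
  obtain ⟨b, hb⟩ : Nat.card ↥L0 ∣ 512 * 174182400 := D.st.card_cz ▸ Subgroup.card_dvd_of_le inf_le_right
  have hpos : 0 < a := Nat.pos_of_ne_zero fun e => by
    rw [e, mul_zero] at ha
    exact Nat.card_pos.ne' ha
  generalize (D0.subgroupOf L0).index = i at h47 h1
  rw [hJ] at ha
  rw [ha] at h1
  rw [← h1] at hb
  have h135 : a * i * b = 135 := by
    have e : 660602880 * (a * i * b) = 660602880 * 135 := by
      rw [show 660602880 * (a * i * b) = 2 ^ 11 * 322560 * a * i * b by ring, ← hb]
    exact Nat.eq_of_mul_eq_mul_left (by norm_num) e
  have hb1 : b = 1 := by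
    have hle : a * i * b ≥ 47 * b := Nat.mul_le_mul_right b (h47.trans (Nat.le_mul_of_pos_left i hpos))
    have hb2 : b ≤ 2 := by omega
    interval_cases b <;> omega
  have hEq : L0 = C := Subgroup.eq_of_le_of_card_ge inf_le_right (by
    rw [D.st.card_cz, hb, hb1, mul_one, ← h1])
  intro c hc
  exact (Subgroup.mem_inf.mp (hEq.ge (mem_cent.mpr hc))).1

end CfsgLib.ConwayIso
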