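import Cfsg.Agent.Lib.ConwayIso.Model
import Cfsg.Agent.Lib.ConwayIso.Extend
import Cfsg.Agent.Lib.Golay.ClassC
import Cfsg.Agent.Lib.Leech.OutCo1

/-!
Gluing the conjugates of a map of one octad centraliser of the model.
-/

set_option autoImplicit false
set_option linter.unusedSectionVars false
set_option maxRecDepth 8000

namespace CfsgLib.ConwayType

open QuadraticMap Module CfsgLargeExtra CfsgLib.ConwayJ
open CfsgLib.HallJankoType (mem_cent conj_fix_iff)

variable {G : Type*} [Group G] [Finite G] {z : G} {Q : Subgroup G} {π : G → V} {M : G → O8}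

/-- What centralises the centraliser in `Q` of a singular point. -/
theorem ST.cent_point (h : ST z Q π M) {y c : G} (hy : y ∈ Q) (hyy : y * y = 1) (hp : π y ≠ 0)
    (hcz : c * z = z * c) (hc : ∀ q ∈ Q, q * y = y * q → c * q = q * c) :
    c = 1 ∨ c = z ∨ c = y ∨ c = y * z := by
  classical
  have hq0 : qf (π y) = 0 := (h.sq y hy).mp hyy
  have hfix : ∀ u, bf u (π y) = 0 → (M c).1 u = u := by
    intro u hu
    obtain ⟨q, hq, rfl⟩ := h.π_surj u
    rw [← h.M_act c hcz q hq, conj_fix_iff.mpr (hc q hq ((h.comm q hq y hy).mpr hu))]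
  have hnd : ∀ u, (∀ v, bf v u = 0) → u = 0 := fun u hu => qf_nondeg.2 u hu
  have hb1 : ∀ v, bf v (π y) ≠ 0 → bf v (π y) = 1 := fun v hv => (F2_cases _).resolve_left hv
  obtain ⟨v0, hv0⟩ : ∃ v, bf v (π y) ≠ 0 := by
    by_contra hall
    push Not at hall
    exact hp (hnd _ hall)
  have hdual : ∀ t : V, (∀ u, bf u (π y) = 0 → bf u t = 0) → t = 0 ∨ t = π y := by
    intro t ht
    have key : ∀ v, bf v t = bf v (π y) * bf v0 t := by
      intro v
      rcases F2_cases (bf v (π y)) with e | e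
      · rw [e, zero_mul]; exact ht v e
      · rw [e, one_mul]
        have h1 := ht (v + v0) (by rw [bf_add_left, e, hb1 _ hv0]; exact F2_add_self 1)
        rw [bf_add_left] at h1
        calc bf v t = bf v t + (bf v0 t + bf v0 t) := by rw [F2_add_self, add_zero]
          _ = bf v0 t := by rw [← add_assoc, h1, zero_add]
    rcases F2_cases (bf v0 t) with e | e
    · exact Or.inl (hnd t fun v => by rw [key v, e, mul_zero])
    · refine Or.inr (eq_of_V (hnd _ fun v => ?_))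
      rw [bf_add_right, key v, e, mul_one]
      exact F2_add_self _
  have hall : ∀ v, (M c).1 v = v := by
    intro v
    rcases F2_cases (bf v (π y)) with e | e
    · exact hfix v e
    have ht : ∀ u, bf u (π y) = 0 → bf u ((M c).1 v + v) = 0 := by
      intro u hu
      rw [bf_add_right]
      nth_rewrite 1 [← hfix u hu]
      rw [bf_map]
      exact F2_add_self _
    rcases hdual _ ht with e' | e'
    · exact eq_of_V e'
    · exfalso
      have hv : (M c).1 v = v + π y := by rw [← e', add_comm ((M c).1 v) v, ← add_assoc, V_add_self, zero_add]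
      have hqv := (M c).2 v
      rw [hv, qf_add, hq0, add_zero, e] at hqv
      exact one_ne_zero (add_eq_left.mp hqv)
  have hcQ : c ∈ Q := (h.M_ker c hcz).mp (Subtype.ext (LinearEquiv.ext hall))
  have hperp : ∀ u, bf u (π y) = 0 → bf u (π c) = 0 := fun u hu => by
    obtain ⟨q, hq, rfl⟩ := h.π_surj u
    exact (h.comm q hq c hcQ).mp (hc q hq ((h.comm q hq y hy).mpr hu)).symm
  rcases hdual _ hperp with e | e
  · rcases h.π_ker c hcQ e with r | r
    · exact Or.inl r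
    · exact Or.inr (Or.inl r)
  · rcases h.π_eq hy hcQ e.symm with r | r
    · exact Or.inr (Or.inr (Or.inl r))
    · exact Or.inr (Or.inr (Or.inr r))

end CfsgLib.ConwayType

namespace CfsgLib.ConwayIso

open Cfsg CfsgGolay CfsgLeech CfsgLib.ConwayType CfsgLib.ConwayJ CfsgLargeExtra
open CfsgLib.HallJankoType (mem_cent conj_fix_iff)
open scoped Pointwise

attribute [local irreducible] codeL octadL dodecadL slpCodes octM

variable {G : Type*} [Group G] {ι : ↥Out1.NI →* G} {ψ : ↥(Subgroup.centralizer ({z0} : Set Spor.Co1)) →* G}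

/-- The map on a conjugate of the centraliser. -/
noncomputable def conjv (ι : ↥Out1.NI →* G) (ψ : ↥(Subgroup.centralizer ({z0} : Set Spor.Co1)) →* G)
    (n : ↥Out1.NI) (c : Spor.Co1) : G := by
  classical
  exact if h : (n : Spor.Co1)⁻¹ * c * n ∈ Subgroup.centralizer ({z0} : Set Spor.Co1) then ι n * ψ ⟨_, h⟩ * (ι n)⁻¹ else 1

/-- The element `c` commutes with the conjugate of the central involution by `n`. -/
def At (n : ↥Out1.NI) (c : Spor.Co1) : Prop :=
  c * ((n : Spor.Co1) * z0 * (n : Spor.Co1)⁻¹) = (n : Spor.Co1) * z0 * (n : Spor.Co1)⁻¹ * c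

theorem At.mem {n : ↥Out1.NI} {c : Spor.Co1} (h : At n c) :
    (n : Spor.Co1)⁻¹ * c * n ∈ Subgroup.centralizer ({z0} : Set Spor.Co1) := by
  rw [mem_cent]
  calc (n : Spor.Co1)⁻¹ * c * n * z0 = (n : Spor.Co1)⁻¹ * (c * ((n : Spor.Co1) * z0 * (n : Spor.Co1)⁻¹)) * n := by group
    _ = (n : Spor.Co1)⁻¹ * ((n : Spor.Co1) * z0 * (n : Spor.Co1)⁻¹ * c) * n := by rw [h]
    _ = z0 * ((n : Spor.Co1)⁻¹ * c * n) := by group

theorem conjv_eq {n : ↥Out1.NI} {c : Spor.Co1} (h : At n c) :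
    conjv ι ψ n c = ι n * ψ ⟨_, h.mem⟩ * (ι n)⁻¹ := by
  classical
  exact dif_pos h.mem

theorem conjv_mul {n : ↥Out1.NI} {c d : Spor.Co1} (hc : At n c) (hd : At n d) :
    conjv ι ψ n (c * d) = conjv ι ψ n c * conjv ι ψ n d := by
  have hcd : At n (c * d) := (Commute.mul_left (show Commute c _ from hc) (show Commute d _ from hd)).eq
  rw [conjv_eq hcd, conjv_eq hc, conjv_eq hd,
    show (⟨_, hcd.mem⟩ : ↥(Subgroup.centralizer ({z0} : Set Spor.Co1))) = ⟨_, hc.mem⟩ * ⟨_, hd.mem⟩ from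
      Subtype.ext (show (n : Spor.Co1)⁻¹ * (c * d) * n = (n : Spor.Co1)⁻¹ * c * n * ((n : Spor.Co1)⁻¹ * d * n) by group),
    map_mul]
  group

theorem conjv_conj {m n : ↥Out1.NI} {c : Spor.Co1} (hc : At n c) :
    conjv ι ψ (m * n) ((m : Spor.Co1) * c * (m : Spor.Co1)⁻¹) = ι m * conjv ι ψ n c * (ι m)⁻¹ := by
  have hmn : At (m * n) ((m : Spor.Co1) * c * (m : Spor.Co1)⁻¹) := by
    unfold At at hc ⊢
    rw [Subgroup.coe_mul]
    calc (m : Spor.Co1) * c * (m : Spor.Co1)⁻¹ * ((m : Spor.Co1) * n * z0 * ((m : Spor.Co1) * n)⁻¹)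
        = (m : Spor.Co1) * (c * ((n : Spor.Co1) * z0 * (n : Spor.Co1)⁻¹)) * (m : Spor.Co1)⁻¹ := by group
      _ = (m : Spor.Co1) * ((n : Spor.Co1) * z0 * (n : Spor.Co1)⁻¹ * c) * (m : Spor.Co1)⁻¹ := by rw [hc]
      _ = _ := by group
  rw [conjv_eq hmn, conjv_eq hc, map_mul,
    show (⟨_, hmn.mem⟩ : ↥(Subgroup.centralizer ({z0} : Set Spor.Co1))) = ⟨_, hc.mem⟩ from Subtype.ext (by
      show ((m * n : ↥Out1.NI) : Spor.Co1)⁻¹ * ((m : Spor.Co1) * c * (m : Spor.Co1)⁻¹) * ((m * n : ↥Out1.NI) : Spor.Co1) = _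
      rw [Subgroup.coe_mul]; group)]
  group

variable (hext : ∀ (n : ↥Out1.NI) (h : (n : Spor.Co1) ∈ Subgroup.centralizer ({z0} : Set Spor.Co1)), ψ ⟨n, h⟩ = ι n)
include hext

theorem conjv_NI {n m : ↥Out1.NI} (h : At n m) : conjv ι ψ n m = ι m := by
  rw [conjv_eq h]
  have := hext (n⁻¹ * m * n) h.mem
  rw [show (⟨_, h.mem⟩ : ↥(Subgroup.centralizer ({z0} : Set Spor.Co1))) = ⟨((n⁻¹ * m * n : ↥Out1.NI) : Spor.Co1), h.mem⟩
    from rfl, this, map_mul, map_mul, map_inv]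
  group

/-- Independence of the conjugating element. -/
theorem conjv_indep {n n' : ↥Out1.NI} (e : (n : Spor.Co1) * z0 * (n : Spor.Co1)⁻¹ = (n' : Spor.Co1) * z0 * (n' : Spor.Co1)⁻¹)
    {c : Spor.Co1} (h : At n c) : conjv ι ψ n c = conjv ι ψ n' c := by
  have h' : At n' c := by unfold At at h ⊢; rwa [← e]
  have hm : (n⁻¹ * n' : ↥Out1.NI).1 ∈ Subgroup.centralizer ({z0} : Set Spor.Co1) := by
    rw [mem_cent]
    show (n : Spor.Co1)⁻¹ * n' * z0 = z0 * ((n : Spor.Co1)⁻¹ * n')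
    calc (n : Spor.Co1)⁻¹ * n' * z0 = (n : Spor.Co1)⁻¹ * ((n' : Spor.Co1) * z0 * (n' : Spor.Co1)⁻¹) * n' := by group
      _ = _ := by rw [← e]; group
  obtain ⟨m, rfl⟩ : ∃ m, n' = n * m := ⟨n⁻¹ * n', by group⟩
  rw [inv_mul_cancel_left] at hm
  rw [conjv_eq h, conjv_eq h', map_mul, ← hext m hm]
  rw [mul_inv_rev, show ∀ a b p q : G, a * b * p * (q * a⁻¹) = a * (b * p * q) * a⁻¹ from fun _ _ _ _ => by group,
    ← map_inv ψ, ← map_mul ψ, ← map_mul ψ]
  refine congrArg (fun t => ι n * t * (ι n)⁻¹) (congrArg ψ (Subtype.ext ?_))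
  simp only [Subgroup.coe_mul, InvMemClass.coe_inv]
  group

/-- The maps at commuting sign changes on disjoint octads agree. -/
theorem conjv_disjoint [Finite G] (hψ : Function.Injective ψ)
    (himg : ∀ a : G, a * ψ ⟨z0, mem_cent.mpr rfl⟩ = ψ ⟨z0, mem_cent.mpr rfl⟩ * a → a ∈ ψ.range)
    {Q0 : Subgroup Spor.Co1} {π0 : Spor.Co1 → V} {M0 : Spor.Co1 → O8} (D : Mdl OZ z0 Q0 π0 M0)
    {o : Finset GolayPt} (ho : o ∈ octads) (hd : OZ ∩ o = ∅) {n : ↥Out1.NI}
    (hn : (n : Spor.Co1) * z0 * (n : Spor.Co1)⁻¹ = Out1.el 1 o ho.1) {c : Spor.Co1}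
    (hcz : c * z0 = z0 * c) (hco : c * Out1.el 1 o ho.1 = Out1.el 1 o ho.1 * c) :
    ψ ⟨c, mem_cent.mpr hcz⟩ = conjv ι ψ n c := by
  classical
  have := OctInv.co1_finite
  set y := Out1.el 1 o ho.1 with hy
  have hsk : SKo OZ o := ⟨ho.1, Or.inl (by rwa [Finset.inter_comm])⟩
  have hyQ : y ∈ Q0 := D.sgn_mem o ho.1 hsk
  have hyy : y * y = 1 := (Out1.el_sgn_mul ho.1 ho.1).trans (Out1.el_one_iff.mpr (Or.inl (symmDiff_self _)))
  have hyne : π0 y ≠ 0 := by
    intro e
    rcases D.st.π_ker y hyQ e with r | r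
    · rcases Out1.el_one_iff.mp r with q | q
      · have := congrArg Finset.card q; rw [card_of_mem_octads ho] at this; simp at this
      · have := congrArg Finset.card q; rw [card_of_mem_octads ho] at this; simp [GolayPt] at this
    · rcases (Out1.el_eq.mp r).2 with q | q
      · rw [q, Finset.inter_self] at hd
        have := congrArg Finset.card hd; rw [card_of_mem_octads ho] at this; simp at this
      · have h1 := congrArg Finset.card q
        rw [Finset.card_compl, card_of_mem_octads ho, card_of_mem_octads OZ_octad] at h1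
        simp [GolayPt] at h1
  have hyz : y * z0 = z0 * y := D.st.es.comm y hyQ
  let I : Subgroup Spor.Co1 := Subgroup.centralizer ({z0} : Set Spor.Co1) ⊓ Subgroup.centralizer ({y} : Set Spor.Co1)
  have memI : ∀ {g}, g ∈ I ↔ g * z0 = z0 * g ∧ g * y = y * g := fun {g} =>
    Subgroup.mem_inf.trans (and_congr mem_cent mem_cent)
  have hat : ∀ g : ↥I, At n g := fun g => by
    show _ * ((n : Spor.Co1) * z0 * (n : Spor.Co1)⁻¹) = _
    rw [hn]; exact (memI.mp g.2).2
  let α : ↥I →* G := ψ.comp (Subgroup.inclusion inf_le_left)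
  let β : ↥I →* G := MonoidHom.mk' (fun g => conjv ι ψ n g) fun g g' => conjv_mul (hat g) (hat g')
  have hagree : ∀ g : ↥I, (g : Spor.Co1) ∈ Out1.NI → α g = β g := fun g hg => by
    show ψ ⟨g, _⟩ = conjv ι ψ n g
    rw [show conjv ι ψ n (g : Spor.Co1) = ι ⟨g, hg⟩ from conjv_NI (ι := ι) (ψ := ψ) hext (m := ⟨g, hg⟩) (hat g),
      ← hext ⟨g, hg⟩ (mem_cent.mpr (memI.mp g.2).1)]
  have hyI : y ∈ I := memI.mpr ⟨hyz, rfl⟩
  have hzI : z0 ∈ I := memI.mpr ⟨rfl, hyz.symm⟩
  have hyN : y ∈ Out1.NI := Out1.el_mem _ _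
  have hzN : z0 ∈ Out1.NI := Out1.el_mem _ _
  let zc : ↥I := ⟨z0, hzI⟩
  let yc : ↥I := ⟨y, hyI⟩
  have hQN : ∀ {q}, q ∈ Q0 → q ∈ Out1.NI := fun {q} hq => by
    obtain ⟨σ, d, hd', rfl, -⟩ := D.shape q hq
    exact Out1.el_mem _ _
  have hδU : ∀ g : ↥I, (α g)⁻¹ * β g ∈ ({1, α zc, α yc, α (yc * zc)} : Set G) := by
    intro g
    have hcomm : ∀ q ∈ Q0, q * y = y * q → ∀ hq : q ∈ I,
        Commute ((α g)⁻¹ * β g) (α ⟨q, hq⟩) := by
      intro q hq hqy hqI
      have h1 : (g : Spor.Co1) * q * (g : Spor.Co1)⁻¹ ∈ Q0 := D.st.es.nor _ (memI.mp g.2).1 q hq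
      have e1 := hagree ⟨q, hqI⟩ (hQN hq)
      have e2 := hagree (g * ⟨q, hqI⟩ * g⁻¹) (hQN h1)
      rw [map_mul, map_mul, map_inv, map_mul, map_mul, map_inv, ← e1] at e2
      show (α g)⁻¹ * β g * α ⟨q, hqI⟩ = α ⟨q, hqI⟩ * ((α g)⁻¹ * β g)
      calc (α g)⁻¹ * β g * α ⟨q, hqI⟩ = (α g)⁻¹ * (β g * α ⟨q, hqI⟩ * (β g)⁻¹) * β g := by group
        _ = (α g)⁻¹ * (α g * α ⟨q, hqI⟩ * (α g)⁻¹) * β g := by rw [← e2]
        _ = _ := by group
    have hez := hcomm z0 D.st.es.mem hyz.symm hzI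
    obtain ⟨⟨d, hd'⟩, hde⟩ := himg ((α g)⁻¹ * β g) hez.eq
    have hdy : ∀ q ∈ Q0, q * y = y * q → d * q = q * d := by
      intro q hq hqy
      have hqI : q ∈ I := memI.mpr ⟨D.st.es.comm q hq, hqy⟩
      have e := (hcomm q hq hqy hqI).eq
      rw [← hde, show α ⟨q, hqI⟩ = ψ ⟨q, (Subgroup.mem_inf.mp hqI).1⟩ from rfl, ← map_mul, ← map_mul] at e
      exact congrArg Subtype.val (hψ e)
    rw [← hde]
    rcases D.st.cent_point hyQ hyy hyne (mem_cent.mp hd') hdy with r | r | r | r <;> subst r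
    · exact Or.inl (map_one ψ)
    · exact Or.inr (Or.inl rfl)
    · exact Or.inr (Or.inr (Or.inl rfl))
    · exact Or.inr (Or.inr (Or.inr rfl))
  have hUc : ∀ g h : ↥I, Commute ((α g)⁻¹ * β g) (α h) := by
    intro g h
    have hc1 : ∀ k : ↥I, (k : Spor.Co1) = z0 ∨ (k : Spor.Co1) = y ∨ (k : Spor.Co1) = y * z0 → Commute (α k) (α h) := by
      intro k hk
      refine Commute.map (Subtype.ext ?_ : k * h = h * k) α
      rw [Subgroup.coe_mul, Subgroup.coe_mul]
      obtain ⟨a, b⟩ := memI.mp h.2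
      rcases hk with r | r | r <;> rw [r]
      · exact a.symm
      · exact b.symm
      · exact (Commute.mul_left (show Commute y _ from b.symm) (show Commute z0 _ from a.symm)).eq
    rcases hδU g with r | r | r | r <;> rw [r]
    · exact Commute.one_left _
    · exact hc1 zc (Or.inl rfl)
    · exact hc1 yc (Or.inr (Or.inl rfl))
    · exact hc1 (yc * zc) (Or.inr (Or.inr rfl))
  let δ : ↥I →* G := MonoidHom.mk' (fun g => (α g)⁻¹ * β g) fun g h => by
    show (α (g * h))⁻¹ * β (g * h) = _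
    rw [map_mul, map_mul, mul_inv_rev]
    calc (α h)⁻¹ * (α g)⁻¹ * (β g * β h) = (α h)⁻¹ * ((α g)⁻¹ * β g) * β h := by group
      _ = ((α g)⁻¹ * β g) * (α h)⁻¹ * β h := by rw [((hUc g h).inv_right).eq]
      _ = _ := by group
  -- the kernel has odd index and two-power index
  have hsq : ∀ g : ↥I, δ g ^ 2 = 1 := by
    intro g
    have hk : ∀ k : ↥I, k * k = 1 → α k ^ 2 = 1 := fun k hk => by rw [pow_two, ← map_mul, hk, map_one]
    rcases hδU g with r | r | r | r <;> rw [show δ g = _ from r]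
    · exact one_pow 2
    · exact hk zc (Subtype.ext D.st.zz)
    · exact hk yc (Subtype.ext hyy)
    · refine hk (yc * zc) (Subtype.ext ?_)
      show y * z0 * (y * z0) = 1
      rw [show y * z0 * (y * z0) = y * (z0 * y) * z0 by group, ← hyz, ← mul_assoc, hyy, one_mul, D.st.zz]
  let T : Subgroup ↥M24 := MulAction.stabilizer M24 OZ ⊓ MulAction.stabilizer M24 o
  let J : Subgroup Spor.Co1 := (T.comap Out1.perm).map Out1.NI.subtype
  have hJI : J ≤ I := by
    rintro _ ⟨m, hm, rfl⟩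
    obtain ⟨d, hd', hmd⟩ := Out1.perm_spec m
    have key : ∀ {p : Finset GolayPt} (hp : p ∈ CW), Out1.perm m • p = p →
        (m : Spor.Co1) * Out1.el 1 p hp = Out1.el 1 p hp * (m : Spor.Co1) := fun {p} hp hfix => by
      refine mul_inv_eq_iff_eq_mul.mp ?_
      rw [hmd]
      exact (Out1.el_conj _ hd' hp).trans (Out1.el_congr rfl hfix)
    obtain ⟨h1, h2⟩ := Subgroup.mem_inf.mp hm
    exact memI.mpr ⟨key OZ_octad.1 h1, key ho.1 h2⟩
  have hJ : Nat.card ↥J = 2 ^ 11 * 10752 := by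
    rw [Subgroup.card_map_of_injective (Subgroup.subtype_injective _)]
    have hT : Nat.card ↥T = 10752 := by
      have := joint_octad_card OZ_octad ho (v := 0) (n := 30) (by simp) (by rw [hd]; rfl)
      change Nat.card ↥T * 30 = 322560 at this
      omega
    have h1 := (T.comap Out1.perm).card_mul_index
    have h2 := T.card_mul_index
    rw [Subgroup.index_comap_of_surjective _ Out1.perm_surjective, Out1.NI_card] at h1
    rw [hT, CfsgGolay.card_M24] at h2
    have hi : T.index = 22770 := by omega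
    rw [hi] at h1
    omega
  obtain ⟨q, hq, hqy⟩ : ∃ q ∈ Q0, q * y * q⁻¹ = y * z0 := by
    obtain ⟨v, hv⟩ : ∃ v, bf v (π0 y) ≠ 0 := by
      by_contra hall
      push Not at hall
      exact hyne (qf_nondeg.2 _ hall)
    obtain ⟨q, hq, rfl⟩ := D.st.π_surj v
    exact ⟨q, hq, by rw [D.st.conj_Q hq hyQ, if_neg hv]⟩
  have h20 : ¬ 2 ^ 21 ∣ Nat.card ↥I := by
    let L : Subgroup Spor.Co1 :=
      { carrier := {g | g * z0 = z0 * g ∧ (g * y * g⁻¹ = y ∨ g * y * g⁻¹ = y * z0)}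
        one_mem' := ⟨by simp, Or.inl (by simp)⟩
        mul_mem' := fun {g g'} ⟨a, b⟩ ⟨a', b'⟩ => ⟨(Commute.mul_left a a').eq, by
          have hgz : g * z0 * g⁻¹ = z0 := conj_fix_iff.mpr a
          rw [show g * g' * y * (g * g')⁻¹ = g * (g' * y * g'⁻¹) * g⁻¹ by group]
          rcases b' with r | r <;> rw [r]
          · exact b
          · rw [show g * (y * z0) * g⁻¹ = g * y * g⁻¹ * (g * z0 * g⁻¹) by group, hgz]
            rcases b with r' | r' <;> rw [r']
            · exact Or.inr rfl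
            · left; rw [mul_assoc, D.st.zz, mul_one]⟩
        inv_mem' := fun {g} ⟨a, b⟩ => ⟨(Commute.inv_left (show Commute g z0 from a)).eq, by
          rcases b with r | r
          · left; nth_rewrite 1 [← r]; group
          · right
            have hgz : g⁻¹ * z0 * g⁻¹⁻¹ = z0 := conj_fix_iff.mpr (Commute.inv_left (show Commute g z0 from a)).eq
            have e : y = g * y * g⁻¹ * z0 := by rw [r, mul_assoc, D.st.zz, mul_one]
            calc g⁻¹ * y * g⁻¹⁻¹ = g⁻¹ * (g * y * g⁻¹ * z0) * g⁻¹⁻¹ := by rw [← e]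
              _ = y * (g⁻¹ * z0 * g⁻¹⁻¹) := by group
              _ = y * z0 := by rw [hgz]⟩ }
    have hIL : I ≤ L := fun g hg => ⟨(memI.mp hg).1, Or.inl (conj_fix_iff.mpr (memI.mp hg).2)⟩
    have hLC : L ≤ Subgroup.centralizer ({z0} : Set Spor.Co1) := fun g hg => mem_cent.mpr hg.1
    have hqL : q ∈ L := ⟨D.st.es.comm q hq, Or.inr hqy⟩
    have hidx : (I.subgroupOf L).index = 2 := by
      refine Subgroup.index_eq_two_iff.mpr ⟨⟨q, hqL⟩, fun b => ?_⟩
      have hyz0 : y * z0 ≠ y := fun e => D.st.es.ne (mul_eq_left.mp e)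
      have key : ∀ g : ↥L, g ∈ I.subgroupOf L ↔ (g : Spor.Co1) * y * (g : Spor.Co1)⁻¹ = y := fun g => by
        rw [Subgroup.mem_subgroupOf, memI, conj_fix_iff]
        exact and_iff_right g.2.1
      have hbz : (b : Spor.Co1) * z0 * (b : Spor.Co1)⁻¹ = z0 := conj_fix_iff.mpr b.2.1
      rw [key, key, Subgroup.coe_mul,
        show (b : Spor.Co1) * q * y * ((b : Spor.Co1) * q)⁻¹ = (b : Spor.Co1) * (q * y * q⁻¹) * (b : Spor.Co1)⁻¹ by group,
        hqy, show (b : Spor.Co1) * (y * z0) * (b : Spor.Co1)⁻¹ =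
          (b : Spor.Co1) * y * (b : Spor.Co1)⁻¹ * ((b : Spor.Co1) * z0 * (b : Spor.Co1)⁻¹) by group, hbz]
      rcases b.2.2 with r | r <;> rw [r]
      · exact Or.inr ⟨rfl, hyz0⟩
      · exact Or.inl ⟨by rw [mul_assoc, D.st.zz, mul_one], hyz0⟩
    intro hdvd
    have h1 := (I.subgroupOf L).card_mul_index
    rw [hidx, Nat.card_congr (Subgroup.subgroupOfEquivOfLe hIL).toEquiv] at h1
    have h2 : Nat.card ↥L ∣ 512 * 174182400 := D.st.card_cz ▸ Subgroup.card_dvd_of_le hLC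
    rw [← h1] at h2
    obtain ⟨k, hk⟩ := hdvd
    rw [hk] at h2
    obtain ⟨j, hj⟩ := h2
    have : 2 * (k * j) = 42525 := Nat.eq_of_mul_eq_mul_left (show 0 < 2 ^ 21 by norm_num) (by
      rw [show 2 ^ 21 * (2 * (k * j)) = 2 ^ 21 * k * 2 * j by ring, ← hj]
      norm_num)
    omega
  have hker : ∀ g : ↥I, δ g = 1 := by
    have hle : J.subgroupOf I ≤ δ.ker := fun g hg => by
      rw [MonoidHom.mem_ker]
      show (α g)⁻¹ * β g = 1
      obtain ⟨m, -, hm⟩ := Subgroup.mem_subgroupOf.mp hg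
      rw [hagree g (hm ▸ m.2), inv_mul_cancel]
    have hodd : Odd (J.subgroupOf I).index := by
      have h1 := (J.subgroupOf I).card_mul_index
      rw [Nat.card_congr (Subgroup.subgroupOfEquivOfLe hJI).toEquiv, hJ] at h1
      rw [← Nat.not_even_iff_odd]
      rintro ⟨r, hr⟩
      refine h20 ⟨21 * r, ?_⟩
      rw [← h1, hr]
      ring
    have hdvd := Subgroup.index_dvd_of_le hle
    have hp : IsPGroup 2 ↥δ.range := fun a => ⟨1, by
      obtain ⟨g, hg⟩ := a.2
      refine Subtype.ext ?_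
      rw [SubmonoidClass.coe_pow, pow_one, ← hg]
      exact hsq g⟩
    obtain ⟨k, hk⟩ := hp.exists_card_eq
    rw [Subgroup.index_ker, hk] at hdvd
    have h2 : Odd (2 ^ k) := hodd.of_dvd_nat hdvd
    have hk0 : k = 0 := by
      by_contra hne
      exact Nat.not_even_iff_odd.mpr h2 ((Nat.even_pow).mpr ⟨even_two, hne⟩)
    subst hk0
    intro g
    have : δ.range = ⊥ := Subgroup.card_eq_one.mp hk
    exact Subgroup.mem_bot.mp (this ▸ ⟨g, rfl⟩)
  exact inv_mul_eq_one.mp (hker ⟨c, memI.mpr ⟨hcz, hco⟩⟩)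

end CfsgLib.ConwayIso
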