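import Cfsg.Agent.Lib.ConwayIso.Glue
import Cfsg.Agent.Lib.ConwayIso.CentGen
import Cfsg.Agent.Lib.ConwayRec.Cover

/-!
A group that contains glued copies of the monomial subgroup and of an octad centraliser contains the first Conway group.
-/

set_option autoImplicit false
set_option linter.unusedSectionVars false
set_option maxRecDepth 8000

namespace CfsgLib.ConwayIso

open Cfsg CfsgGolay CfsgLeech CfsgLib.ConwayRec CfsgLib.ConwayJ CfsgLib.ConwayType CfsgLargeExtra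
open CfsgLib.HallJankoType (mem_cent conj_fix_iff)
open scoped Pointwise

attribute [local irreducible] codeL octadL dodecadL slpCodes mco mv pullN nmM mc mperm octM

variable {G : Type*} [Group G] [Finite G] {ι : ↥Out1.NI →* G}
  {ψ : ↥(Subgroup.centralizer ({z0} : Set Spor.Co1)) →* G}

/-- Compatible embeddings of the monomial subgroup and of an octad centraliser. -/
structure Emb (ι : ↥Out1.NI →* G) (ψ : ↥(Subgroup.centralizer ({z0} : Set Spor.Co1)) →* G) : Prop where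
  ι_inj : Function.Injective ι
  ψ_inj : Function.Injective ψ
  ext : ∀ (n : ↥Out1.NI) (h : (n : Spor.Co1) ∈ Subgroup.centralizer ({z0} : Set Spor.Co1)), ψ ⟨n, h⟩ = ι n
  image : ∀ a : G, a * ψ ⟨z0, mem_cent.mpr rfl⟩ = ψ ⟨z0, mem_cent.mpr rfl⟩ * a → a ∈ ψ.range

theorem exists_to {o : Finset GolayPt} (ho : o ∈ octads) :
    ∃ n : ↥Out1.NI, (n : Spor.Co1) * z0 * (n : Spor.Co1)⁻¹ = Out1.el 1 o ho.1 := by
  obtain ⟨g, hg, hgO⟩ := exists_smul_O0 ho
  obtain ⟨k, hk, hkO⟩ := exists_smul_O0 OZ_octad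
  refine ⟨⟨Out1.sec ⟨g * k⁻¹, mul_mem hg (inv_mem hk)⟩, by rw [Out1.sec_apply]; exact Out1.el_mem _ _⟩, ?_⟩
  show Out1.sec ⟨g * k⁻¹, _⟩ * z0 * (Out1.sec ⟨g * k⁻¹, _⟩)⁻¹ = _
  rw [Out1.sec_apply]
  refine (Out1.el_conj _ CW_empty OZ_octad.1).trans (Out1.el_congr rfl ?_)
  show (g * k⁻¹) • OZ = o
  rw [← hkO, mul_smul, inv_smul_smul, hgO]

theorem octad_of {O : ℕ} (hv : Valid (pid, O)) (h8 : pc O = 8) : toSet O ∈ octads :=
  ⟨hv.2.1, by rw [← h8, ← pc_toMask, toMask_toSet hv.1]⟩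

theorem ys_graph : (YS.all fun y => YS.all fun x => Nat.beq y x || Nat.beq (y &&& x) 0 ||
    YS.any fun w => Nat.beq (w &&& y) 0 && Nat.beq (w &&& x) 0) = true := by decide +kernel

theorem toSet_disjoint {a b : ℕ} (h : a &&& b = 0) : toSet a ∩ toSet b = ∅ := by
  ext p
  simp only [Finset.mem_inter, mem_toSet, Finset.notMem_empty, iff_false, not_and]
  intro ha hb
  have := congrArg (fun n : ℕ => n.testBit (idx p)) h
  simp only [Nat.testBit_and, ha, hb, Nat.zero_testBit] at this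
  exact absurd this (by decide)

theorem At.of_eq {n : ↥Out1.NI} {c y : Spor.Co1} (h : (n : Spor.Co1) * z0 * (n : Spor.Co1)⁻¹ = y)
    (hc : c * y = y * c) : At n c := by
  unfold At
  rwa [h]

namespace Emb

variable (E : Emb ι ψ)
include E

/-- The maps at two commuting sign changes on disjoint octads agree. -/
theorem agree {Q0 : Subgroup Spor.Co1} {π0 : Spor.Co1 → V} {M0 : Spor.Co1 → O8} (D : Mdl OZ z0 Q0 π0 M0)
    {o o' : Finset GolayPt} (ho : o ∈ octads) (ho' : o' ∈ octads) (hd : o ∩ o' = ∅) {n n' : ↥Out1.NI}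
    (hn : (n : Spor.Co1) * z0 * (n : Spor.Co1)⁻¹ = Out1.el 1 o ho.1)
    (hn' : (n' : Spor.Co1) * z0 * (n' : Spor.Co1)⁻¹ = Out1.el 1 o' ho'.1) {c : Spor.Co1}
    (hc : c * Out1.el 1 o ho.1 = Out1.el 1 o ho.1 * c) (hc' : c * Out1.el 1 o' ho'.1 = Out1.el 1 o' ho'.1 * c) :
    conjv ι ψ n c = conjv ι ψ n' c := by
  obtain ⟨g, hg, hgO⟩ := exists_smul_O0 ho
  obtain ⟨k, hk, hkO⟩ := exists_smul_O0 OZ_octad
  let σ : ↥M24 := ⟨g * k⁻¹, mul_mem hg (inv_mem hk)⟩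
  have hσ : σ.1 • OZ = o := by
    show (g * k⁻¹) • OZ = o
    rw [← hkO, mul_smul, inv_smul_smul, hgO]
  let s : ↥Out1.NI := ⟨Out1.sec σ, by rw [Out1.sec_apply]; exact Out1.el_mem _ _⟩
  have hs : (s : Spor.Co1) * z0 * (s : Spor.Co1)⁻¹ = Out1.el 1 o ho.1 := by
    show Out1.sec σ * z0 * (Out1.sec σ)⁻¹ = _
    rw [Out1.sec_apply]
    exact (Out1.el_conj _ CW_empty OZ_octad.1).trans (Out1.el_congr rfl hσ)
  rw [conjv_indep E.ext (hn.trans hs.symm) (At.of_eq hn hc)]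
  -- move to the standard octad
  set c0 := (s : Spor.Co1)⁻¹ * c * s with hc0
  have ho2 : σ.1⁻¹ • o' ∈ octads := smul_mem_octads (inv_mem σ.2) ho'
  have hd2 : OZ ∩ σ.1⁻¹ • o' = ∅ := by
    rw [show OZ = σ.1⁻¹ • o by rw [← hσ, inv_smul_smul], ← Finset.smul_finset_inter, hd, Finset.smul_finset_empty]
  have hm : ((s⁻¹ * n' : ↥Out1.NI) : Spor.Co1) * z0 * ((s⁻¹ * n' : ↥Out1.NI) : Spor.Co1)⁻¹ =
      Out1.el 1 (σ.1⁻¹ • o') ho2.1 := by
    rw [Subgroup.coe_mul, InvMemClass.coe_inv,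
      show (s : Spor.Co1)⁻¹ * n' * z0 * ((s : Spor.Co1)⁻¹ * n')⁻¹ =
        (s : Spor.Co1)⁻¹ * ((n' : Spor.Co1) * z0 * (n' : Spor.Co1)⁻¹) * s by group, hn']
    show (Out1.sec σ)⁻¹ * _ * Out1.sec σ = _
    rw [← map_inv, show Out1.sec σ⁻¹ * Out1.el 1 o' ho'.1 * Out1.sec σ =
      Out1.sec σ⁻¹ * Out1.el 1 o' ho'.1 * (Out1.sec σ⁻¹)⁻¹ by rw [← map_inv, inv_inv], Out1.sec_apply σ⁻¹]
    exact Out1.el_conj σ⁻¹ CW_empty ho'.1
  have hcz : c0 * z0 = z0 * c0 := by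
    calc c0 * z0 = (s : Spor.Co1)⁻¹ * (c * ((s : Spor.Co1) * z0 * (s : Spor.Co1)⁻¹)) * s := by rw [hc0]; group
      _ = (s : Spor.Co1)⁻¹ * (((s : Spor.Co1) * z0 * (s : Spor.Co1)⁻¹) * c) * s := by rw [hs, hc]
      _ = z0 * c0 := by rw [hc0]; group
  have hco : c0 * Out1.el 1 (σ.1⁻¹ • o') ho2.1 = Out1.el 1 (σ.1⁻¹ • o') ho2.1 * c0 := by
    rw [← hm, Subgroup.coe_mul, InvMemClass.coe_inv]
    calc c0 * ((s : Spor.Co1)⁻¹ * n' * z0 * ((s : Spor.Co1)⁻¹ * n')⁻¹)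
        = (s : Spor.Co1)⁻¹ * (c * ((n' : Spor.Co1) * z0 * (n' : Spor.Co1)⁻¹)) * s := by rw [hc0]; group
      _ = (s : Spor.Co1)⁻¹ * (((n' : Spor.Co1) * z0 * (n' : Spor.Co1)⁻¹) * c) * s := by rw [hn', hc']
      _ = _ := by rw [hc0]; group
  have key := conjv_disjoint E.ext E.ψ_inj E.image D ho2 hd2 hm hcz hco
  rw [conjv_eq (At.of_eq hs hc)]
  have hcc : c = (s : Spor.Co1) * c0 * (s : Spor.Co1)⁻¹ := by rw [hc0]; group
  have hatm : At (s⁻¹ * n') c0 := At.of_eq hm hco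
  conv_rhs => rw [show n' = s * (s⁻¹ * n') by group, hcc, conjv_conj hatm, ← key]

theorem exists_amal : ∃ zh : G, Amal ι zh ∧
    ∀ (n : Mon) (hn : Valid n), (∃ y ∈ YS, pullN n.1 y = zMask) →
      ∀ h : (mv n : Spor.Co1) * Out1.z * (mv n : Spor.Co1)⁻¹ ∈ Subgroup.centralizer ({z0} : Set Spor.Co1),
        ψ ⟨_, h⟩ = ι (mv n) * zh * (ι (mv n))⁻¹ := by
  classical
  obtain ⟨Q0, π0, M0, D⟩ := exists_mdl_z0
  have hoct : ∀ y ∈ YS, toSet y ∈ octads := fun y hy => by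
    have h := List.all_eq_true.mp ys_ok y hy
    simp only [Bool.and_eq_true, Nat.beq_eq] at h
    exact octad_of (Valid.of_ok h.1.1) h.1.2
  choose ny hny using fun (y : ℕ) (hy : y ∈ YS) => exists_to (hoct y hy)
  have hsg : ∀ (y : ℕ) (hy : y ∈ YS), Out1.el 1 (toSet y) (hoct y hy).1 = sg y := fun y hy => by
    rw [sg_el (z_comm hy).1]
  have hzc : ∀ (y : ℕ) (hy : y ∈ YS), Out1.z * Out1.el 1 (toSet y) (hoct y hy).1 =
      Out1.el 1 (toSet y) (hoct y hy).1 * Out1.z := fun y hy => by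
    rw [hsg y hy]; exact (z_comm hy).2
  have hy0 : 416040 ∈ YS := List.mem_cons_self
  let zh := conjv ι ψ (ny 416040 hy0) Out1.z
  have disj : ∀ (y : ℕ) (hy : y ∈ YS) (x : ℕ) (hx : x ∈ YS), y &&& x = 0 →
      conjv ι ψ (ny y hy) Out1.z = conjv ι ψ (ny x hx) Out1.z := fun y hy x hx h0 =>
    E.agree D (hoct y hy) (hoct x hx) (toSet_disjoint h0) (hny y hy) (hny x hx) (hzc y hy) (hzc x hx)
  have hall : ∀ (y : ℕ) (hy : y ∈ YS), conjv ι ψ (ny y hy) Out1.z = zh := by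
    intro y hy
    have h := List.all_eq_true.mp (List.all_eq_true.mp ys_graph y hy) _ hy0
    simp only [Bool.or_eq_true, Nat.beq_eq, List.any_eq_true, Bool.and_eq_true] at h
    rcases h with (h | h) | ⟨w, hw, h1, h2⟩
    · subst h; rfl
    · exact disj y hy _ hy0 h
    · exact (disj w hw y hy h1).symm.trans (disj w hw _ hy0 h2)
  have atom : ∀ (p : ↥Out1.NI) (n : Mon), Valid n → ∀ y ∈ YS,
      (p : Spor.Co1) * z0 * (p : Spor.Co1)⁻¹ = sg (pullN n.1 y) →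
      conjv ι ψ p ((mv n : Spor.Co1) * Out1.z * (mv n : Spor.Co1)⁻¹) = ι (mv n) * zh * (ι (mv n))⁻¹ := by
    intro p n hn y hy hp
    have hat : At (ny y hy) Out1.z := At.of_eq (hny y hy) (hzc y hy)
    rw [← hall y hy, ← conjv_conj hat]
    refine conjv_indep E.ext ?_ ?_
    · rw [hp, ← (sg_conj hn (z_comm hy).1).2, ← hsg y hy, ← hny y hy, Subgroup.coe_mul]
      group
    · refine At.of_eq hp ?_
      exact Subgroup.mem_centralizer_singleton_iff.mp (atom_mem hn ⟨y, hy, rfl⟩)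
  refine ⟨zh, ⟨fun O hO h8 => ?_⟩, fun n hn hy h => ?_⟩
  · obtain ⟨p, hp⟩ := exists_to (octad_of hO h8)
    have hpO : (p : Spor.Co1) * z0 * (p : Spor.Co1)⁻¹ = sg O := by rw [hp, sg_el hO]
    have hat : ∀ c : ↥(Subgroup.centralizer ({sg O} : Set Spor.Co1)), At p c := fun c =>
      At.of_eq hpO (mem_cent.mp c.2)
    refine ⟨MonoidHom.mk' (fun c => conjv ι ψ p c) fun a b => conjv_mul (hat a) (hat b), fun n h => ?_,
      fun n hn hy => ?_⟩
    · exact conjv_NI E.ext (hat ⟨n, h⟩)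
    · obtain ⟨y, hy, rfl⟩ := hy
      exact atom p n hn y hy hpO
  · obtain ⟨y, hy, hyO⟩ := hy
    have h1 : ((1 : ↥Out1.NI) : Spor.Co1) * z0 * ((1 : ↥Out1.NI) : Spor.Co1)⁻¹ = sg (pullN n.1 y) := by
      rw [hyO, ← z0_sg, OneMemClass.coe_one, one_mul, inv_one, mul_one]
    rw [← atom 1 n hn y hy h1]
    rw [conjv_eq (At.of_eq h1 (Subgroup.mem_centralizer_singleton_iff.mp (atom_mem hn ⟨y, hy, rfl⟩))), map_one,
      one_mul, inv_one, mul_one]
    refine congrArg ψ (Subtype.ext ?_)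
    simp

theorem exists_iso : ∃ (H : Subgroup G) (φ : ↥H ≃* Spor.Co1),
    (∀ a : G, a * ψ ⟨z0, mem_cent.mpr rfl⟩ = ψ ⟨z0, mem_cent.mpr rfl⟩ * a → a ∈ H) ∧
    (∀ n : ↥Out1.NI, ∃ h : ι n ∈ H, φ ⟨ι n, h⟩ = n) ∧
    ∀ c : ↥(Subgroup.centralizer ({z0} : Set Spor.Co1)), ∃ h : ψ c ∈ H, φ ⟨ψ c, h⟩ = c := by
  classical
  have := OctInv.co1_finite
  have : IsSimpleGroup Spor.Co1 := co1_simple
  obtain ⟨zh, hA, hψA⟩ := E.exists_amal
  obtain ⟨Q0, π0, M0, D⟩ := exists_mdl_z0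
  -- the graph
  have hA2 : Amal (ι.prod Out1.NI.subtype) ((zh, Out1.z) : G × Spor.Co1) := by
    refine ⟨fun O hO h8 => ?_⟩
    obtain ⟨f, f1, f2⟩ := hA.res O hO h8
    refine ⟨f.prod (Subgroup.subtype _), fun n h => ?_, fun n hn hy => ?_⟩
    · exact Prod.ext (f1 n h) rfl
    · exact Prod.ext (f2 n hn hy) rfl
  set Ht := Subgroup.closure (Set.range (ι.prod Out1.NI.subtype) ∪ {((zh, Out1.z) : G × Spor.Co1)}) with hHt
  have hbound : Nat.card ↥Ht ≤ 6 * (Nat.card ↥Out1.NI * Nat.card ↥Out1.NI) := hA2.card_le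
  have hmN : ∀ n, ((ι n, (n : Spor.Co1)) : G × Spor.Co1) ∈ Ht := fun n => Subgroup.subset_closure (Or.inl ⟨n, rfl⟩)
  have hmz : ((zh, Out1.z) : G × Spor.Co1) ∈ Ht := Subgroup.subset_closure (Or.inr rfl)
  let p1 : ↥Ht →* G := (MonoidHom.fst _ _).comp Ht.subtype
  let p2 : ↥Ht →* Spor.Co1 := (MonoidHom.snd _ _).comp Ht.subtype
  have hsurj : Function.Surjective p2 := by
    rw [← MonoidHom.range_eq_top]
    have hle : Out1.NI ≤ p2.range := fun x hx => ⟨⟨_, hmN ⟨x, hx⟩⟩, rfl⟩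
    refine (Out1.NI_coatom.le_iff.mp hle).resolve_right fun e => Out1.z_not_mem ?_
    rw [← e]
    exact ⟨⟨_, hmz⟩, rfl⟩
  have hinj : Function.Injective p1 := by
    rw [← MonoidHom.ker_eq_bot_iff]
    by_contra hne
    have hn : (p1.ker.map p2).Normal := Subgroup.Normal.map inferInstance p2 hsurj
    rcases hn.eq_bot_or_eq_top with e | e
    · refine hne (eq_bot_iff.mpr fun a ha => Subgroup.mem_bot.mpr (Subtype.ext (Prod.ext (MonoidHom.mem_ker.mp ha) ?_)))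
      exact Subgroup.mem_bot.mp (e ▸ Subgroup.mem_map_of_mem p2 ha)
    · have hc1 : Nat.card Spor.Co1 ≤ Nat.card ↥p1.ker := by
        rw [← Subgroup.card_top (G := Spor.Co1), ← e]
        exact Nat.card_le_card_of_surjective (fun a : ↥p1.ker => (⟨p2 a, Subgroup.mem_map_of_mem p2 a.2⟩ : ↥(p1.ker.map p2)))
          (fun ⟨_, a, ha, he⟩ => ⟨⟨a, ha⟩, Subtype.ext he⟩)
      have hc2 : Nat.card ↥Out1.NI ≤ p1.ker.index := by
        rw [Subgroup.index_ker]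
        exact Nat.card_le_card_of_injective (fun n => (⟨ι n, ⟨_, hmN n⟩, rfl⟩ : ↥p1.range))
          (fun a b r => E.ι_inj (congrArg Subtype.val r))
      have h := p1.ker.card_mul_index
      have hmul := Nat.mul_le_mul hc1 hc2
      rw [h] at hmul
      have := hmul.trans hbound
      rw [show Nat.card Spor.Co1 = 4157776806543360000 from co1_card, Out1.NI_card] at this
      norm_num at this
  let H : Subgroup G := p1.range
  let e1 : ↥Ht ≃* ↥H := MonoidHom.ofInjective hinj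
  let φ0 : ↥H →* Spor.Co1 := p2.comp e1.symm.toMonoidHom
  have hφ0 : ∀ (a : G) (b : Spor.Co1) (h : ((a, b) : G × Spor.Co1) ∈ Ht), ∃ h' : a ∈ H, φ0 ⟨a, h'⟩ = b := by
    intro a b h
    refine ⟨⟨⟨_, h⟩, rfl⟩, ?_⟩
    show p2 (e1.symm _) = b
    rw [show (⟨a, _⟩ : ↥H) = e1 ⟨_, h⟩ from Subtype.ext rfl, MulEquiv.symm_apply_apply]
    rfl
  -- the centraliser
  have hgen : ∀ (c : Spor.Co1) (hc : c * z0 = z0 * c), ((ψ ⟨c, mem_cent.mpr hc⟩, c) : G × Spor.Co1) ∈ Ht := by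
    let L : Subgroup Spor.Co1 := ((Ht.comap (ψ.prod (Subgroup.subtype _))).map (Subgroup.subtype _))
    have hL : ∀ c : Spor.Co1, c * z0 = z0 * c → c ∈ L := by
      refine cent_gen L (fun n hn hnz => ⟨⟨n, mem_cent.mpr hnz⟩, ?_, rfl⟩) fun n hn hy => ?_
      · show ((ψ ⟨n, _⟩, n) : G × Spor.Co1) ∈ Ht
        rw [E.ext ⟨n, hn⟩ (mem_cent.mpr hnz)]
        exact hmN ⟨n, hn⟩
      · have hmem : (mv n : Spor.Co1) * Out1.z * (mv n : Spor.Co1)⁻¹ ∈ Subgroup.centralizer ({z0} : Set Spor.Co1) := by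
          rw [z0_sg]; exact atom_mem hn hy
        refine ⟨⟨_, hmem⟩, ?_, rfl⟩
        show ((ψ ⟨_, hmem⟩, _) : G × Spor.Co1) ∈ Ht
        rw [hψA n hn hy hmem]
        exact mul_mem (mul_mem (hmN (mv n)) hmz) (inv_mem (hmN (mv n)))
    intro c hc
    obtain ⟨⟨c', hc'⟩, hm, rfl⟩ := hL c hc
    exact hm
  have hψH : ∀ c : ↥(Subgroup.centralizer ({z0} : Set Spor.Co1)), ∃ h : ψ c ∈ H, φ0 ⟨ψ c, h⟩ = c := fun c =>
    hφ0 _ _ (hgen c (mem_cent.mp c.2))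
  have hιH : ∀ n, ∃ h : ι n ∈ H, φ0 ⟨ι n, h⟩ = n := fun n => hφ0 _ _ (hmN n)
  have hcent : ∀ a : G, a * ψ ⟨z0, mem_cent.mpr rfl⟩ = ψ ⟨z0, mem_cent.mpr rfl⟩ * a → a ∈ H := fun a ha => by
    obtain ⟨c, rfl⟩ := E.image a ha
    exact (hψH c).1
  -- the kernel is inverted by the three involutions of a four group
  have hzH := (hψH ⟨z0, mem_cent.mpr rfl⟩).1
  set zG : ↥H := ⟨ψ ⟨z0, mem_cent.mpr rfl⟩, hzH⟩ with hzG
  have hKz : ∀ k ∈ φ0.ker, k * zG = zG * k → k = 1 := by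
    intro k hk hkz
    obtain ⟨c, hc⟩ := E.image k (congrArg Subtype.val hkz)
    obtain ⟨h', hφc⟩ := hψH c
    rw [show (⟨ψ c, h'⟩ : ↥H) = k from Subtype.ext hc, MonoidHom.mem_ker.mp hk] at hφc
    refine Subtype.ext ?_
    rw [← hc, show c = 1 from Subtype.ext hφc.symm, map_one]
    rfl
  obtain ⟨o, ho, hdis⟩ : ∃ o, o ∈ octads ∧ OZ ∩ o = ∅ := by
    obtain ⟨g, hg, hgO⟩ := exists_smul_O0 OZ_octad
    refine ⟨g • toSet 6889680, smul_mem_octads hg (toSet_mem_octads' (by decide) (by decide +kernel)), ?_⟩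
    rw [← hgO, ← Finset.smul_finset_inter, show O0 ∩ toSet 6889680 = ∅ from toSet_disjoint (by decide),
      Finset.smul_finset_empty]
  have ho2 : symmDiff OZ o ∈ CW := CW_symmDiff OZ_octad.1 ho.1
  have hc16 : (symmDiff OZ o).card = 16 := by
    rw [symmDiff_def, Finset.sup_eq_union, Finset.card_union_of_disjoint disjoint_sdiff_sdiff]
    have h1 : OZ \ o = OZ := Finset.sdiff_eq_self_of_disjoint (Finset.disjoint_iff_inter_eq_empty.mpr hdis)
    have h2 : o \ OZ = o := Finset.sdiff_eq_self_of_disjoint (Finset.disjoint_iff_inter_eq_empty.mpr (by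
      rwa [Finset.inter_comm]))
    rw [h1, h2, card_of_mem_octads OZ_octad, card_of_mem_octads ho]
  have ho3 : (symmDiff OZ o)ᶜ ∈ octads := ⟨CW_compl ho2, by rw [Finset.card_compl, hc16]; simp [GolayPt]⟩
  obtain ⟨n1, hn1⟩ := exists_to ho
  obtain ⟨n2, hn2⟩ := exists_to ho3
  have hprod : z0 * ((n1 : Spor.Co1) * z0 * (n1 : Spor.Co1)⁻¹) = (n2 : Spor.Co1) * z0 * (n2 : Spor.Co1)⁻¹ := by
    rw [hn1, hn2]
    exact (Out1.el_sgn_mul OZ_octad.1 ho.1).trans (Out1.el_eq.mpr ⟨rfl, Or.inr rfl⟩)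
  let J : ↥Out1.NI → ↥H := fun n => ⟨ι n, (hιH n).1⟩
  have hJ : ∀ n, φ0 (J n) = n := fun n => (hιH n).2
  have hJmul : ∀ a b, J (a * b) = J a * J b := fun a b => Subtype.ext (map_mul ι a b)
  have hzN : z0 ∈ Out1.NI := Out1.el_mem _ _
  have hJz : J ⟨z0, hzN⟩ = zG := Subtype.ext (E.ext ⟨z0, hzN⟩ (mem_cent.mpr rfl)).symm
  have hJinv : ∀ a, J a⁻¹ = (J a)⁻¹ := fun a => Subtype.ext (map_inv ι a)
  -- fixed point free
  have hfree : ∀ n : ↥Out1.NI, ∀ k ∈ φ0.ker, k * (J n * zG * (J n)⁻¹) = J n * zG * (J n)⁻¹ * k → k = 1 := by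
    intro n k hk he
    have hk' : (J n)⁻¹ * k * J n ∈ φ0.ker := by
      have := (inferInstance : φ0.ker.Normal).conj_mem k hk (J n)⁻¹
      rwa [inv_inv] at this
    have := hKz _ hk' (by
      calc (J n)⁻¹ * k * J n * zG = (J n)⁻¹ * (k * (J n * zG * (J n)⁻¹)) * J n := by group
        _ = (J n)⁻¹ * (J n * zG * (J n)⁻¹ * k) * J n := by rw [he]
        _ = zG * ((J n)⁻¹ * k * J n) := by group)
    calc k = J n * ((J n)⁻¹ * k * J n) * (J n)⁻¹ := by group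
      _ = 1 := by rw [this]; group
  have hzz : zG * zG = 1 := by
    rw [← hJz, ← hJmul, show (⟨z0, hzN⟩ : ↥Out1.NI) * ⟨z0, hzN⟩ = 1 from Subtype.ext D.st.zz]
    exact Subtype.ext (map_one ι)
  have hinvert : ∀ n : ↥Out1.NI, ∀ k ∈ φ0.ker, J n * zG * (J n)⁻¹ * k * (J n * zG * (J n)⁻¹) = k⁻¹ := by
    intro n k hk
    set a := J n * zG * (J n)⁻¹ with ha
    have haa : a * a = 1 := by
      rw [ha, show J n * zG * (J n)⁻¹ * (J n * zG * (J n)⁻¹) = J n * (zG * zG) * (J n)⁻¹ by group, hzz]; group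
    have hai : a⁻¹ = a := inv_eq_of_mul_eq_one_right haa
    have hconj : ∀ k ∈ φ0.ker, a * k * a ∈ φ0.ker := fun k hk => by
      have := (inferInstance : φ0.ker.Normal).conj_mem k hk a
      rwa [hai] at this
    -- the commutator map is injective, hence onto
    let f : ↥φ0.ker → ↥φ0.ker := fun k => ⟨k⁻¹ * (a * k * a), mul_mem (inv_mem k.2) (hconj k k.2)⟩
    have hf : Function.Injective f := by
      intro u v e
      have e' : (u : ↥H)⁻¹ * (a * u * a) = (v : ↥H)⁻¹ * (a * v * a) := congrArg Subtype.val e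
      have h1 : (v : ↥H) * (u : ↥H)⁻¹ * a = a * ((v : ↥H) * (u : ↥H)⁻¹) := by
        have e2 : (v : ↥H) * (u : ↥H)⁻¹ * a = a * v * a * a⁻¹ * (u : ↥H)⁻¹ := by
          calc (v : ↥H) * (u : ↥H)⁻¹ * a = v * ((u : ↥H)⁻¹ * (a * u * a)) * a⁻¹ * (u : ↥H)⁻¹ := by group
            _ = v * ((v : ↥H)⁻¹ * (a * v * a)) * a⁻¹ * (u : ↥H)⁻¹ := by rw [e']
            _ = _ := by group
        rw [e2]; group
      exact Subtype.ext (mul_inv_eq_one.mp (hfree n _ (mul_mem v.2 (inv_mem u.2)) h1)).symm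
    obtain ⟨w, hw⟩ := Finite.injective_iff_surjective.mp hf ⟨k, hk⟩
    have hw' : k = (w : ↥H)⁻¹ * (a * w * a) := (congrArg Subtype.val hw).symm
    calc a * k * a = a * (w : ↥H)⁻¹ * a * w * (a * a) := by rw [hw']; group
      _ = a * (w : ↥H)⁻¹ * a * w := by rw [haa, mul_one]
      _ = ((w : ↥H)⁻¹ * (a⁻¹ * w * a⁻¹))⁻¹ := by group
      _ = k⁻¹ := by rw [hai, hw']
  have hker : φ0.ker = ⊥ := by
    rw [eq_bot_iff]
    intro k hk
    refine Subgroup.mem_bot.mpr (hfree n2 k hk ?_)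
    set a := J n1 * zG * (J n1)⁻¹ with ha
    set b := J n2 * zG * (J n2)⁻¹ with hb
    have hab : zG * a = b := by
      rw [ha, hb, ← hJz, ← hJinv, ← hJinv, ← hJmul, ← hJmul, ← hJmul, ← hJmul, ← hJmul]
      exact congrArg J (Subtype.ext (by simpa using hprod))
    have h1 := hinvert n1 k hk
    have h2 := hinvert 1 k⁻¹ (inv_mem hk)
    rw [show J 1 = 1 from Subtype.ext (map_one ι), one_mul, inv_one, mul_one, inv_inv] at h2
    have haa : a * a = 1 := by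
      rw [ha, show J n1 * zG * (J n1)⁻¹ * (J n1 * zG * (J n1)⁻¹) = J n1 * (zG * zG) * (J n1)⁻¹ by group, hzz]; group
    rw [← ha] at h1
    rw [← hab]
    have h3 : zG * (a * k * a) * zG = k := by rw [h1, h2]
    calc k * (zG * a) = zG * (a * k * a) * zG * (zG * a) := by rw [h3]
      _ = zG * a * k * a * (zG * zG) * a := by group
      _ = zG * a * k * (a * a) := by rw [hzz]; group
      _ = zG * a * k := by rw [haa, mul_one]
  have hφsurj : Function.Surjective φ0 := fun b => by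
    obtain ⟨t, rfl⟩ := hsurj b
    exact ⟨e1 t, congrArg p2 (e1.symm_apply_apply t)⟩
  exact ⟨H, MulEquiv.ofBijective φ0 ⟨(MonoidHom.ker_eq_bot_iff φ0).mp hker, hφsurj⟩, hcent, hιH, hψH⟩

end Emb

end CfsgLib.ConwayIso
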