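import Cfsg.Agent.Lib.ConwayIso.QImage
import Cfsg.Agent.Lib.ConwayIso.Extend
import Cfsg.Agent.Lib.Leech.OutCo1

/-!
The centraliser of the centre is the centraliser of the sign change of the model.
-/

set_option autoImplicit false
set_option linter.unusedSectionVars false
set_option maxRecDepth 8000
set_option maxHeartbeats 400000

namespace CfsgLib.ConwayIso

open CfsgLib.ConwayJ

theorem moves_all : (∀ l < 16, ∃ k < 16, gA 0 k ^^^ k = l) ∧ (∀ f < 16, ∃ k < 16, gB 0 k ^^^ k = f) ∧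
    ∀ m < 64, ∃ k < 64, gM 0 k ^^^ k = m := by decide +kernel

end CfsgLib.ConwayIso

namespace CfsgLib.ConwayType

open Cfsg QuadraticMap Module CfsgLargeExtra CfsgLib.ConwayJ CfsgLib.ConwayIso CfsgLeech CfsgGolay
open CfsgLib.HallJankoType (mem_cent conj_fix_iff)
open scoped Pointwise

attribute [local irreducible] octM codeL octadL dodecadL slpCodes

variable {G : Type*} [Group G] [Finite G] {z : G} {Q : Subgroup G} {π : G → V} {M : G → O8} {sl sf e : ℕ → G}

theorem fix_oct {σ : ↥M24} {o : Finset GolayPt} (ho : o ∈ octads) (h : Out1.Fix σ.1 o) : σ.1 • o = o := by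
  refine h.resolve_right fun r => ?_
  have := congrArg Finset.card r
  rw [Finset.card_smul_finset, Finset.card_compl, card_of_mem_octads ho] at this
  have h24 : Fintype.card GolayPt = 24 := by simp [GolayPt]
  omega

namespace Good

variable {x g b k w : G} (H : Good z Q π M x g b k w) (S : Sec Q π sl sf) (C : Crd z Q π M sl sf e)
include H S C

theorem exists_psi {θ : ↥(Subgroup.normalizer (AJ Q π : Set G)) ≃* ↥Out1.NI} (T : Theta z Q π e θ)
    {Q0 : Subgroup Spor.Co1} {π0 : Spor.Co1 → V} {M0 : Spor.Co1 → O8} (D0 : Mdl OZ z0 Q0 π0 M0)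
    (himg : ∀ m : ↥(Subgroup.normalizer (AJ Q π : Set G)), (θ m : Spor.Co1) ∈ Q0 ↔ (m : G) ∈ Q) :
    ∃ ψ : ↥(Subgroup.centralizer ({z} : Set G)) ≃* ↥(Subgroup.centralizer ({z0} : Set Spor.Co1)),
      ∀ (m : ↥(Subgroup.normalizer (AJ Q π : Set G))) (hm : (m : G) * z = z * (m : G)),
        (ψ ⟨m, mem_cent.mpr hm⟩ : Spor.Co1) = θ m := by
  classical
  have h := H.st
  have := OctInv.co1_finite
  let N := Subgroup.normalizer (AJ Q π : Set G)
  let D := N ⊓ Subgroup.centralizer ({z} : Set G)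
  have hQD : Q ≤ D := le_inf (H.Q_le_N S C) fun q hq => mem_cent.mpr (h.es.comm q hq)
  let ρ : ↥D →* Spor.Co1 := Out1.NI.subtype.comp (θ.toMonoidHom.comp (Subgroup.inclusion inf_le_left))
  have ρ_eq : ∀ d : ↥D, ρ d = (θ ⟨d, (Subgroup.mem_inf.mp d.2).1⟩ : Spor.Co1) := fun _ => rfl
  have hρ : Function.Injective ρ := fun a b r =>
    Subtype.ext (congrArg (fun m : ↥N => (m : G)) (θ.injective (Subtype.ext (r :))) :)
  have hzD : z ∈ D := hQD h.es.mem
  have hρz : ρ ⟨z, hzD⟩ = z0 := by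
    rw [ρ_eq, T.num _ 1024 (by norm_num) (H.Ln_top S C).symm, wS_top]
    rfl
  have hodd : Odd (D.relIndex (Subgroup.centralizer ({z} : Set G))) := by
    have h1 := (D.subgroupOf (Subgroup.centralizer ({z} : Set G))).card_mul_index
    rw [Nat.card_congr (Subgroup.subgroupOfEquivOfLe inf_le_right).toEquiv, h.card_cz] at h1
    obtain ⟨j, hj⟩ := H.card_ge S C
    change Nat.card ↥D = _ at hj
    rw [hj] at h1
    show Odd (D.subgroupOf (Subgroup.centralizer ({z} : Set G))).index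
    generalize (D.subgroupOf (Subgroup.centralizer ({z} : Set G))).index = i at h1
    have h2 : j * i * 315 = 42525 := by
      have h3 : 2 ^ 21 * (j * i * 315) = 2 ^ 21 * 42525 := by
        rw [show 2 ^ 21 * 315 * j * i = 2 ^ 21 * (j * i * 315) by ring] at h1
        rw [h1]
        norm_num
      exact Nat.eq_of_mul_eq_mul_left (by norm_num) h3
    have h4 : j * i = 135 := by omega
    have : Odd (j * i) := by rw [h4]; decide
    exact (Nat.odd_mul.mp this).2
  obtain ⟨c, hcz, hcN, hcl, hcf⟩ := H.gen_conj_sf S C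
  obtain ⟨c0, τ0, hc0z, hc0N, hτ0, hc0⟩ := H.gen_lift S C (j := 0) (by norm_num)
  have hnt : ∀ δ : ↥D →* Spor.Co1, (∀ d, δ d = 1 ∨ δ d = z0) → ∀ d, δ d = 1 := by
    intro δ hδ
    have hcomm : ∀ a b : ↥D, Commute (δ a) (δ b) := fun a b => by
      rcases hδ a with r | r <;> rcases hδ b with r' | r' <;> rw [r, r']
      all_goals first | exact Commute.one_left _ | exact Commute.one_right _ | exact Commute.refl _
    have hδconj : ∀ a b : ↥D, δ (a * b * a⁻¹) = δ b := fun a b => by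
      rw [map_mul, map_mul, map_inv, (hcomm a b).eq, mul_inv_cancel_right]
    have hsq : ∀ a : ↥D, δ a * δ a = 1 := fun a => by
      rcases hδ a with r | r <;> rw [r]
      · exact one_mul 1
      · exact D0.st.zz
    let u : G → Spor.Co1 := fun a => if ha : a ∈ D then δ ⟨a, ha⟩ else 1
    have umul : ∀ {a b}, a ∈ D → b ∈ D → u (a * b) = u a * u b := fun {a b} ha hb => by
      simp only [u, dif_pos ha, dif_pos hb, dif_pos (mul_mem ha hb)]
      exact map_mul δ ⟨a, ha⟩ ⟨b, hb⟩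
    have ueq : ∀ d : ↥D, δ d = u d := fun d => by simp [u]
    have usq : ∀ {a}, a ∈ D → u a * u a = 1 := fun {a} ha => by
      simp only [u, dif_pos ha]; exact hsq _
    have uconj : ∀ {a b}, a ∈ D → b ∈ D → u (a * b * a⁻¹) = u b := fun {a b} ha hb => by
      simp only [u, dif_pos hb, dif_pos (mul_mem (mul_mem ha hb) (inv_mem ha))]
      exact hδconj ⟨a, ha⟩ ⟨b, hb⟩
    have hAD : ∀ {a}, a ∈ AJ Q π → a ∈ D := fun {a} ha => ⟨Subgroup.le_normalizer ha, mem_cent.mpr (h.AJ_z ha)⟩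
    have hcD : c ∈ D := ⟨hcN, mem_cent.mpr hcz⟩
    have hc0D : c0 ∈ D := ⟨hc0N, mem_cent.mpr hc0z⟩
    have hslD : ∀ {l}, l < 16 → sl l ∈ D := fun {l} hl => hQD (S.l_mem l hl).1
    have hsfD : ∀ {f}, f < 16 → sf f ∈ D := fun {f} hf => hQD (S.f_mem f hf)
    have uz : u z = 1 := by
      have hd : dotN 1 1 = true := by decide +kernel
      have e1 := congrArg u (h.conj_sl S (l := 1) (f := 1) (by norm_num) (by norm_num))
      rw [hd, uconj (hsfD (by norm_num)) (hslD (by norm_num)), umul (hslD (by norm_num)) (hQD (h.zp_mem true).1)] at e1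
      exact mul_eq_left.mp e1.symm
    have uzp : ∀ i, u (zp z i) = 1 := fun i => by
      cases i
      · have := umul (one_mem D) (one_mem D)
        rw [mul_one] at this
        exact mul_eq_left.mp this.symm
      · exact uz
    have hzero : gLam 0 0 = 0 ∧ gM 0 0 = 0 := by decide +kernel
    have usl : ∀ l < 16, u (sl l) = 1 := by
      intro l hl
      obtain ⟨k, hk, rfl⟩ := moves_all.1 l hl
      have L := gen_lev (j := 0) (by norm_num)
      have e1 := hc0 k hk 0 (by norm_num) false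
      have t0 : τ0 0 = false := by
        have := hτ0 0 (by norm_num) 0 (by norm_num)
        rwa [Nat.xor_self, Bool.xor_self] at this
      rw [hzero.1, hzero.2, Nat.xor_zero, t0, Bool.xor_self, H.Ln_idN S C hk (by norm_num),
        H.Ln_idN S C (L.ltA k hk) (by norm_num), Nat.mul_zero, H.Ln_zero S C] at e1
      simp only [zp, cond_false, mul_one] at e1
      rw [S.l_mul _ (L.ltA k hk) _ hk, umul (hslD (L.ltA k hk)) (hslD hk), ← e1, uconj hc0D (hslD hk)]
      exact usq (hslD hk)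
    have uEL : ∀ n < 2048, n / 16 % 64 = 0 → u (Ln e n) = 1 := by
      intro n hn h0
      obtain ⟨l, hl, m, hm, i, rfl⟩ := exists_idN hn
      rw [(idN_facts.1 l hl m hm i).2.2.1] at h0
      subst h0
      rw [H.Ln_idN S C hl (by norm_num), Nat.mul_zero, H.Ln_zero S C, mul_one, umul (hslD hl) (hQD (h.zp_mem i).1),
        usl l hl, uzp, one_mul]
    have uA : ∀ n < 2048, u (Ln e n) = 1 := by
      intro n hn
      obtain ⟨m, hm, hm'⟩ := moves_all.2.2 (n / 16 % 64) (Nat.mod_lt _ (by norm_num))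
      have h16 : 16 * m < 2048 := by omega
      obtain ⟨n', hn', e', c'⟩ := hcl (16 * m) h16
      rw [show 16 * m / 16 % 64 = m by omega] at c'
      have hx := Nat.xor_lt_two_pow (n := 11) hn (Nat.xor_lt_two_pow (n := 11) hn' h16)
      have h0 : (n ^^^ (n' ^^^ 16 * m)) / 16 % 64 = 0 := by
        rw [cls_xor, cls_xor, c', show 16 * m / 16 % 64 = m by omega, hm', Nat.xor_self]
      have e1 := uEL _ hx h0
      rw [H.Ln_xor S C, H.Ln_xor S C, umul (hAD (H.Ln_mem S C _)) (mul_mem (hAD (H.Ln_mem S C _)) (hAD (H.Ln_mem S C _))),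
        umul (hAD (H.Ln_mem S C _)) (hAD (H.Ln_mem S C _)), ← e', uconj hcD (hAD (H.Ln_mem S C _)),
        usq (hAD (H.Ln_mem S C _)), mul_one] at e1
      exact e1
    have usf : ∀ f < 16, u (sf f) = 1 := by
      intro f hf
      obtain ⟨k, hk, rfl⟩ := moves_all.2.1 f hf
      obtain ⟨n, hn, h0, e1⟩ := hcf k hk
      have hB := (gen_lev (j := 0) (by norm_num)).ltB k hk
      have e2 := congrArg u e1
      rw [uconj hcD (hsfD hk), umul (hAD (H.Ln_mem S C _)) (hsfD hB), uEL n hn h0, one_mul] at e2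
      rw [S.f_mul _ hB _ hk, umul (hsfD hB) (hsfD hk), ← e2]
      exact usq (hsfD hk)
    have uQ : ∀ q ∈ Q, u q = 1 := by
      intro q hq
      obtain ⟨i, hi⟩ := h.Q_decomp S hq
      rw [hi, umul (mul_mem (hslD (lN_lt _)) (hsfD (fN_lt _))) (hQD (h.zp_mem i).1),
        umul (hslD (lN_lt _)) (hsfD (fN_lt _)), usl _ (lN_lt _), usf _ (fN_lt _), uzp, one_mul, one_mul]
    -- the action on the octad
    let P : ↥D →* ↥M24 := Out1.perm.comp (θ.toMonoidHom.comp (Subgroup.inclusion inf_le_left))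
    have hPs : ∀ d : ↥D, (P d : Equiv.Perm GolayPt) ∈ stabM OZ := by
      intro d
      refine mem_stabM.mpr ⟨(P d).2, ?_⟩
      obtain ⟨c1, hc1, hd⟩ := Out1.perm_spec (θ ⟨d, (Subgroup.mem_inf.mp d.2).1⟩)
      refine fix_oct OZ_octad (Out1.conj_sign_only (σ := P d) (hc := OZ_octad.1) (e := c1) (he := hc1) ?_)
      have e1 : ρ ⟨z, hzD⟩ * ρ d = ρ d * ρ ⟨z, hzD⟩ := by
        rw [← map_mul, ← map_mul]
        exact congrArg ρ (Subtype.ext (mem_cent.mp (Subgroup.mem_inf.mp d.2).2).symm)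
      rw [hρz, ρ_eq, hd] at e1
      exact e1
    let R : ↥D →* Equiv.Perm ↥OZ :=
      (octRes OZ).comp ((M24.subtype.comp P).codRestrict (stabM OZ) hPs)
    have hker : ∀ d, R d = 1 → δ d = 1 := by
      intro d hd
      have hmem : (P d : Equiv.Perm GolayPt) ∈ fixOct OZ := ⟨(P d).2, (mem_fixingSubgroup_iff _).mpr fun p hp =>
        congrArg (fun r : Equiv.Perm ↥OZ => ((r ⟨p, hp⟩ : ↥OZ) : GolayPt)) hd⟩
      let s : ↥Out1.NI := ⟨Out1.sec (P d), by rw [Out1.sec_apply]; exact Out1.el_mem _ _⟩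
      have hq : (θ.symm s : G) ∈ Q := by
        rw [← himg, MulEquiv.apply_symm_apply]
        exact D0.sec_mem _ hmem
      have hdN := (Subgroup.mem_inf.mp d.2).1
      have h1 : Out1.perm (θ ((θ.symm s)⁻¹ * ⟨d, hdN⟩)) = 1 := by
        rw [map_mul, map_inv, map_mul, map_inv, MulEquiv.apply_symm_apply,
          Out1.perm_el (x := s) (hc := CW_empty) (Out1.sec_apply _)]
        exact inv_mul_cancel _
      obtain ⟨n, hn, hn'⟩ := H.Ln_surj S C ((T.ker _).mp h1)
      rw [ueq, show (d : G) = (θ.symm s : G) * Ln e n by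
        rw [hn', Subgroup.coe_mul, InvMemClass.coe_inv, mul_inv_cancel_left]]
      rw [umul (hQD hq) (hAD (H.Ln_mem S C n)), uQ _ hq, uA n hn, one_mul]
    have hR : R.range = alternatingGroup ↥OZ := by
      rw [← octRes_range OZ_octad]
      refine le_antisymm ?_ ?_
      · rintro _ ⟨d, rfl⟩; exact ⟨_, rfl⟩
      · rintro _ ⟨⟨σ, hσ⟩, rfl⟩
        have hσ' := mem_stabM.mp hσ
        let s : ↥Out1.NI := ⟨Out1.sec ⟨σ, hσ'.1⟩, by rw [Out1.sec_apply]; exact Out1.el_mem _ _⟩
        have hz' : (θ ⟨z, (Subgroup.mem_inf.mp hzD).1⟩ : Spor.Co1) = z0 := (ρ_eq ⟨z, hzD⟩).symm.trans hρz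
        have hcent : (θ.symm s : G) * z = z * (θ.symm s : G) := by
          refine congrArg Subtype.val (θ.injective (Subtype.ext ?_) :
            θ.symm s * ⟨z, (Subgroup.mem_inf.mp hzD).1⟩ = ⟨z, (Subgroup.mem_inf.mp hzD).1⟩ * θ.symm s)
          rw [map_mul, map_mul, Subgroup.coe_mul, Subgroup.coe_mul, MulEquiv.apply_symm_apply, hz']
          show Out1.sec ⟨σ, hσ'.1⟩ * z0 = z0 * Out1.sec ⟨σ, hσ'.1⟩
          refine mul_inv_eq_iff_eq_mul.mp ?_
          rw [z0, Out1.sec_apply]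
          exact (Out1.el_conj _ CW_empty OZ_octad.1).trans (Out1.el_congr rfl hσ'.2)
        refine ⟨⟨θ.symm s, Subgroup.mem_inf.mpr ⟨(θ.symm s).2, mem_cent.mpr hcent⟩⟩, ?_⟩
        have hP : P ⟨θ.symm s, Subgroup.mem_inf.mpr ⟨(θ.symm s).2, mem_cent.mpr hcent⟩⟩ = ⟨σ, hσ'.1⟩ := by
          show Out1.perm (θ (θ.symm s)) = _
          rw [MulEquiv.apply_symm_apply]
          exact Out1.perm_el (hc := CW_empty) (Out1.sec_apply _)
        refine congrArg (octRes OZ) (Subtype.ext ?_)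
        show ((P _ : ↥M24) : Equiv.Perm GolayPt) = σ
        rw [hP]
    intro d
    have hle : alternatingGroup ↥OZ ≤ δ.ker.map R := by
      rw [← Equiv.Perm.closure_three_cycles_eq_alternating, Subgroup.closure_le]
      intro γ hγ
      have hγA : γ ∈ R.range := hR ▸ hγ.mem_alternatingGroup
      obtain ⟨a, rfl⟩ := hγA
      refine ⟨a, MonoidHom.mem_ker.mpr ?_, rfl⟩
      have h3 : R (a ^ 3) = 1 := by rw [map_pow, ← hγ.orderOf, pow_orderOf_eq_one]
      have := hker _ h3
      rwa [map_pow, pow_succ, pow_two, hsq, one_mul] at this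
    obtain ⟨a, ha, hae⟩ := hle (hR.le ⟨d, rfl⟩)
    have := hker (a⁻¹ * d) (by rw [map_mul, map_inv, hae, inv_mul_cancel])
    rwa [map_mul, map_inv, MonoidHom.mem_ker.mp ha, inv_one, one_mul] at this
  obtain ⟨ψ, hψ⟩ := exists_ext h D0.st D hQD inf_le_right hodd ρ hρ (fun d => himg _) hρz hnt
  exact ⟨ψ, fun m hm => hψ ⟨m, Subgroup.mem_inf.mpr ⟨m.2, mem_cent.mpr hm⟩⟩⟩

end Good

end CfsgLib.ConwayType
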