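import Cfsg.Agent.Lib.ConwayIso.Theta
import Cfsg.Agent.Lib.ConwayIso.Model

/-!
The monomial picture carries the extraspecial group to the one of the model.
-/

set_option autoImplicit false
set_option linter.unusedSectionVars false
set_option maxRecDepth 8000
set_option maxHeartbeats 400000

namespace CfsgLib.ConwayIso

open Cfsg CfsgGolay CfsgLeech CfsgLib.ConwayJ
open scoped Pointwise

attribute [local irreducible] codeL octadL dodecadL slpCodes octM

theorem el_check : ∀ n < 2048,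
    ((wordC n &&& zMask == 0) || (wordC n &&& zMask == zMask)) = (n / 16 % 64 == 0) := by decide +kernel

theorem word_sko {n : ℕ} : SKo OZ (toSet (wordC n)) ↔ toSet (wordC n) ∈ CW ∧
    ((wordC n &&& zMask == 0) || (wordC n &&& zMask == zMask)) = true := by
  have key : toSet (wordC n) ∩ OZ = toSet (wordC n &&& zMask) := by
    ext p
    rw [Finset.mem_inter, mem_toSet, OZ, mem_toSet, mem_toSet, Nat.testBit_and, Bool.and_eq_true]
  have lt : wordC n &&& zMask < 2 ^ 24 := lt_of_le_of_lt Nat.and_le_right (by decide)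
  rw [SKo, key, Bool.or_eq_true, beq_iff_eq, beq_iff_eq]
  refine and_congr_right fun _ => or_congr ⟨fun h => eq_of_toSet_eq (n := 0) lt (by norm_num) ?_, fun h => ?_⟩
    ⟨fun h => eq_of_toSet_eq (n := zMask) lt (by decide) h, fun h => ?_⟩
  · rw [h, toSet_zero_empty]
  · rw [h, toSet_zero_empty]
  · rw [h]; rfl

theorem cls_xor (a c : ℕ) : (a ^^^ c) / 16 % 64 = (a / 16 % 64) ^^^ (c / 16 % 64) := by
  rw [show (16 : ℕ) = 2 ^ 4 from rfl, show (64 : ℕ) = 2 ^ 6 from rfl, ← Nat.shiftRight_eq_div_pow,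
    ← Nat.shiftRight_eq_div_pow, ← Nat.shiftRight_eq_div_pow, Nat.shiftRight_xor_distrib, Nat.xor_mod_two_pow]

theorem gB_orbit : ∀ f < 16, f = 0 ∨ ∃ k < 15, (gB 0)^[k] 1 = f := by decide +kernel

theorem gM_rigid : (∀ m < 64, (gM 0)^[4] m = (gM 0)^[3] m ^^^ m → m = 0) ∧
    (gB 0)^[4] 1 = (gB 0)^[3] 1 ^^^ 1 := by decide +kernel

end CfsgLib.ConwayIso

namespace CfsgLib.ConwayType

open Cfsg QuadraticMap Module CfsgLargeExtra CfsgLib.ConwayJ CfsgLib.ConwayIso CfsgLeech CfsgGolay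
open CfsgLib.HallJankoType (mem_cent conj_fix_iff)
open scoped Pointwise

attribute [local irreducible] octM codeL octadL dodecadL slpCodes

variable {G : Type*} [Group G] [Finite G] {z : G} {Q : Subgroup G} {π : G → V} {M : G → O8} {sl sf e : ℕ → G}

namespace Good

variable {x g b k w : G} (H : Good z Q π M x g b k w) (S : Sec Q π sl sf) (C : Crd z Q π M sl sf e)
include H S C

theorem cls_Ln {n : ℕ} (hn : n < 2048) : Cls M (Ln e n) (n / 16 % 64) := by
  have h := H.st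
  obtain ⟨l, hl, m, hm, i, rfl⟩ := exists_idN hn
  rw [(idN_facts.1 l hl m hm i).2.2.1, H.Ln_idN S C hl hm]
  intro a ha f hf
  have hs := h.es.comm _ (S.l_mem l hl).1
  have hmz := h.AJ_z (H.Ln_mid S C hm).mem
  rw [h.M_mul _ _ (Commute.mul_left hs hmz) (h.es.comm _ (h.zp_mem i).1), h.M_mul _ _ hs hmz,
    h.M_Q (S.l_mem l hl).1, h.M_Q (h.zp_mem i).1, one_mul, mul_one]
  exact (H.Ln_mid S C hm).cls a ha f hf

theorem Ln_Q_iff {n : ℕ} (hn : n < 2048) : Ln e n ∈ Q ↔ n / 16 % 64 = 0 := by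
  have h := H.st
  constructor
  · intro hq
    have hc := H.cls_Ln S C hn
    rcases ap_ne (n / 16 % 64) (Nat.mod_lt _ (by norm_num)) with h0 | ⟨j, hj, hne⟩
    · exact h0
    exfalso
    have hp : 2 ^ j < 16 := Nat.pow_lt_pow_right (m := j) (n := 4) (by norm_num) hj
    have h2 := hc 0 (by norm_num) _ hp
    rw [h.M_Q hq, Nat.zero_xor] at h2
    exact hne (vV_inj (apN_lt _ _) hp (by norm_num) hp h2.symm).1
  · intro h0
    obtain ⟨l, hl, m, hm, i, rfl⟩ := exists_idN hn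
    rw [(idN_facts.1 l hl m hm i).2.2.1] at h0
    subst h0
    rw [H.Ln_idN S C hl (by norm_num), Nat.mul_zero, H.Ln_zero S C, mul_one]
    exact mul_mem (S.l_mem l hl).1 (h.zp_mem i).1

theorem sf_conj {f : ℕ} (hf : f < 16) {n : ℕ} (hn : n < 2048) :
    ∃ n' < 2048, sf f * Ln e n * (sf f)⁻¹ = Ln e n' ∧ n' / 16 % 64 = n / 16 % 64 ∧ (n' ^^^ n) / 16 % 64 = 0 := by
  obtain ⟨l, hl, m, hm, i, rfl⟩ := exists_idN hn
  set i' := xor (xor i (dotN l f)) (gN m f)
  have hl' := xor_lt16 hl (apN_lt m f)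
  refine ⟨idN (l ^^^ apN m f) m i', idN_lt hl' hm _, H.conj_Ln S C hl hm hf i, ?_, ?_⟩
  · rw [(idN_facts.1 _ hl' m hm i').2.2.1, (idN_facts.1 _ hl m hm i).2.2.1]
  · rw [show (idN (l ^^^ apN m f) m i' ^^^ idN l m i) / 16 % 64 =
        (idN (l ^^^ apN m f) m i' / 16 % 64) ^^^ (idN l m i / 16 % 64) from cls_xor _ _,
      (idN_facts.1 _ hl' m hm i').2.2.1, (idN_facts.1 _ hl m hm i).2.2.1, Nat.xor_self]

theorem sf_nor {f : ℕ} (hf : f < 16) : sf f ∈ Subgroup.normalizer (AJ Q π : Set G) := by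
  have fwd : ∀ a ∈ AJ Q π, sf f * a * (sf f)⁻¹ ∈ AJ Q π := fun a ha => by
    obtain ⟨n, hn, rfl⟩ := H.Ln_surj S C ha
    obtain ⟨n', -, e', -⟩ := H.sf_conj S C hf hn
    rw [e']
    exact H.Ln_mem S C _
  refine Subgroup.mem_normalizer_iff.mpr fun a => ⟨fwd a, fun ha => ?_⟩
  have := fwd _ ha
  rw [H.st.sf_inv S hf] at this
  have hss : sf f * sf f = 1 := by
    nth_rewrite 1 [← H.st.sf_inv S hf]
    exact inv_mul_cancel _
  rw [show sf f * (sf f * a * sf f) * sf f = sf f * sf f * a * (sf f * sf f) by group, hss, one_mul, mul_one] at this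
  exact this

theorem Q_le_N : Q ≤ Subgroup.normalizer (AJ Q π : Set G) := fun q hq => by
  obtain ⟨i, hi⟩ := H.st.Q_decomp S hq
  rw [hi]
  exact mul_mem (mul_mem (Subgroup.le_normalizer (H.st.EL_le (S.l_mem _ (lN_lt _))))
    (H.sf_nor S C (fN_lt _))) (Subgroup.le_normalizer (H.st.EL_le (H.st.zp_mem i)))

theorem gen_conj_sf : ∃ c : G, c * z = z * c ∧ c ∈ Subgroup.normalizer (AJ Q π : Set G) ∧
    (∀ n < 2048, ∃ n' < 2048, c * Ln e n * c⁻¹ = Ln e n' ∧ n' / 16 % 64 = gM 0 (n / 16 % 64)) ∧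
    ∀ f < 16, ∃ n < 2048, n / 16 % 64 = 0 ∧ c * sf f * c⁻¹ = Ln e n * sf (gB 0 f) := by
  classical
  have h := H.st
  obtain ⟨c, τ, hcz, hcN, hτ, hc⟩ := H.gen_lift S C (j := 0) (by norm_num)
  have L := gen_lev (j := 0) (by norm_num)
  have hclass : ∀ n < 2048, ∃ n' < 2048, c * Ln e n * c⁻¹ = Ln e n' ∧ n' / 16 % 64 = gM 0 (n / 16 % 64) := by
    intro n hn
    obtain ⟨l, hl, m, hm, i, rfl⟩ := exists_idN hn
    obtain ⟨hg, hlam, -, -⟩ := gen_class (j := 0) (by norm_num) hm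
    have hl' := xor_lt16 (L.ltA l hl) hlam
    refine ⟨_, idN_lt hl' hg _, hc l hl m hm i, ?_⟩
    rw [(idN_facts.1 _ hl' _ hg _).2.2.1, (idN_facts.1 _ hl m hm i).2.2.1]
  refine ⟨c, hcz, hcN, hclass, fun f hf => ?_⟩
  have hq := h.nor_mem hcz (S.f_mem f hf)
  obtain ⟨i, hi⟩ := h.Q_decomp S hq
  set l' := lN (π (c * sf f * c⁻¹))
  set f' := fN (π (c * sf f * c⁻¹))
  have hl' : l' < 16 := lN_lt _
  have hf' : f' < 16 := fN_lt _
  have hzero : gLam 0 0 = 0 ∧ gM 0 0 = 0 := by decide +kernel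
  have hτ0 : τ 0 = false := by
    have := hτ 0 (by norm_num) 0 (by norm_num)
    rwa [Nat.xor_self, Bool.xor_self] at this
  have hsl : ∀ l < 16, c * sl l * c⁻¹ = sl (gA 0 l) := fun l hl => by
    have := hc l hl 0 (by norm_num) false
    rw [hzero.1, hzero.2, Nat.xor_zero, hτ0, Bool.xor_self, H.Ln_idN S C hl (by norm_num),
      H.Ln_idN S C (L.ltA l hl) (by norm_num), Nat.mul_zero, H.Ln_zero S C] at this
    simpa [zp] using this
  have hfe : f' = gB 0 f := by
    refine dotN_ext hf' (L.ltB f hf) fun p hp => ?_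
    obtain ⟨l, hl, rfl⟩ := L.surjA hp
    have e1 := congrArg (fun v => c * v * c⁻¹) (h.conj_sl S hl hf)
    rw [show c * (sf f * sl l * (sf f)⁻¹) * c⁻¹ = (c * sf f * c⁻¹) * (c * sl l * c⁻¹) * (c * sf f * c⁻¹)⁻¹ by group,
      show c * (sl l * zp z (dotN l f)) * c⁻¹ = c * sl l * c⁻¹ * (c * zp z (dotN l f) * c⁻¹) by group,
      conj_fix_iff.mpr (h.zp_comm hcz _), hsl l hl, hi] at e1
    have hzi : zp z i * sl (gA 0 l) * (zp z i)⁻¹ = sl (gA 0 l) :=
      conj_fix_iff.mpr (h.zp_comm (h.es.comm _ (S.l_mem _ (L.ltA l hl)).1) i).symm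
    rw [show sl l' * sf f' * zp z i * sl (gA 0 l) * (sl l' * sf f' * zp z i)⁻¹ =
        sl l' * (sf f' * (zp z i * sl (gA 0 l) * (zp z i)⁻¹) * (sf f')⁻¹) * (sl l')⁻¹ by group, hzi,
      h.conj_sl S (L.ltA l hl) hf'] at e1
    have hcomm : Commute (sl l') (sl (gA 0 l) * zp z (dotN (gA 0 l) f')) :=
      H.AJ_comm (h.EL_le (S.l_mem _ hl')) (mul_mem (h.EL_le (S.l_mem _ (L.ltA l hl))) (h.EL_le (h.zp_mem _)))
    rw [hcomm.eq, mul_inv_cancel_right, mul_right_inj] at e1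
    have := h.zp_inj e1
    rw [dotN_comm (L.ltA l hl) hf', dotN_comm (L.ltA l hl) (L.ltB f hf), L.dot l hl f hf]
    exact this
  refine ⟨idN l' 0 i, idN_lt hl' (by norm_num) i, (idN_facts.1 l' hl' 0 (by norm_num) i).2.2.1, ?_⟩
  rw [hi, ← hfe, H.Ln_idN S C hl' (by norm_num), Nat.mul_zero, H.Ln_zero S C, mul_one, mul_assoc,
    (h.zp_comm (h.es.comm _ (S.f_mem f' hf')) i).eq, mul_assoc]

theorem exists_image (hO : ∀ n < 2048, InO z Q π (Ln e n) ↔ octM.testBit n = true)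
    {θ : ↥(Subgroup.normalizer (AJ Q π : Set G)) ≃* ↥Out1.NI} (T : Theta z Q π e θ) :
    ∃ Q0 π0 M0, Mdl OZ z0 Q0 π0 M0 ∧
      ∀ m : ↥(Subgroup.normalizer (AJ Q π : Set G)), (θ m : Spor.Co1) ∈ Q0 ↔ (m : G) ∈ Q := by
  classical
  have h := H.st
  obtain ⟨Q0, π0, M0, D⟩ := exists_mdl_z0
  refine ⟨Q0, π0, M0, D, ?_⟩
  let N := Subgroup.normalizer (AJ Q π : Set G)
  let F : Fin 16 → ↥N := fun f => ⟨sf f, H.sf_nor S C f.2⟩
  -- the places of the octad are fixed
  have hfix : ∀ f : Fin 16, (Out1.perm (θ (F f)) : Equiv.Perm GolayPt) ∈ fixOct OZ := by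
    intro f
    refine ⟨(Out1.perm (θ (F f))).2, ?_⟩
    set σ := (Out1.perm (θ (F f)) : Equiv.Perm GolayPt) with hσ
    have hpair : ∀ p ∈ OZ, ∀ q ∈ OZ, pairU (σ p) (σ q) = pairU p q := by
      intro p hp q hq
      refine prN_ext (pairU_lt _ _) (pairU_lt _ _) fun b hb => ?_
      obtain ⟨n, hn, en, -, hd⟩ := H.sf_conj S C f.2 hb
      have e1 : sf f * Ln e n * (sf f)⁻¹ = Ln e b := by
        rw [← en, h.sf_inv S f.2]
        have hss : sf f * sf f = 1 := by
          nth_rewrite 1 [← h.sf_inv S f.2]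
          exact inv_mul_cancel _
        rw [show sf f * (sf f * Ln e b * sf f) * sf f = sf f * sf f * Ln e b * (sf f * sf f) by group, hss,
          one_mul, mul_one]
      rw [T.perm (F f) n b hn hb e1 p q]
      have hd' : (n ^^^ b) < 2048 := Nat.xor_lt_two_pow (n := 11) hn hb
      have hk := el_check _ hd'
      rw [show ((n ^^^ b) / 16 % 64 == 0) = true by rw [beq_iff_eq]; exact hd] at hk
      have hsk := (word_sko.mpr ⟨word_CW hd', hk⟩).2
      have hconst : dodW (n ^^^ b) p = dodW (n ^^^ b) q := by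
        rw [Bool.eq_iff_iff, ← mem_word, ← mem_word]
        rcases hsk with e' | e'
        · have np : p ∉ toSet (wordC (n ^^^ b)) := fun m => Finset.notMem_empty p (e' ▸ Finset.mem_inter.mpr ⟨m, hp⟩)
          have nq : q ∉ toSet (wordC (n ^^^ b)) := fun m => Finset.notMem_empty q (e' ▸ Finset.mem_inter.mpr ⟨m, hq⟩)
          exact iff_of_false np nq
        · have mp := (Finset.mem_inter.mp (e'.symm ▸ hp)).1
          have mq := (Finset.mem_inter.mp (e'.symm ▸ hq)).1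
          exact iff_of_true mp mq
      have hz : prN 11 (n ^^^ b) (pairU p q) = false := by
        rw [pairU_split, prN_xor_right]
        show xor (dodW _ p) (dodW _ q) = false
        rw [hconst, Bool.xor_self]
      rw [prN_xor] at hz
      revert hz
      cases prN 11 n (pairU p q) <;> cases prN 11 b (pairU p q) <;> decide
    refine (mem_fixingSubgroup_iff _).mpr fun p hp => ?_
    rw [Equiv.Perm.smul_def]
    have hduad : ∀ q ∈ OZ, q ≠ p → (σ p = p ∧ σ q = q) ∨ (σ p = q ∧ σ q = p) := by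
      intro q hq hne
      refine Fi24J.duad_inj (fun e => hne (σ.injective e).symm) hne.symm ?_
      rw [← vecU_pair, ← vecU_pair]
      exact congrArg vecU (Fin.ext (hpair p (Finset.mem_coe.mp hp) q hq))
    obtain ⟨q, hq, hqp⟩ := Finset.exists_mem_ne (s := OZ) (by rw [OZ_octad.2]; norm_num) p
    have hr : ∃ r ∈ OZ, r ≠ p ∧ r ≠ q := by
      by_contra hcon
      push Not at hcon
      have : OZ ⊆ {p, q} := fun r hr => by
        by_cases hrp : r = p
        · simp [hrp]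
        · simp [hcon r hr hrp]
      have := Finset.card_le_card this
      rw [OZ_octad.2] at this
      exact absurd (this.trans Finset.card_le_two) (by norm_num)
    obtain ⟨r, hr, hrp, hrq⟩ := hr
    rcases hduad q hq hqp with ⟨e1, -⟩ | ⟨e1, -⟩
    · exact e1
    rcases hduad r hr hrp with ⟨e2, -⟩ | ⟨e2, -⟩
    · exact e2
    · exact absurd (e2.symm.trans e1) hrq
  have hperminj : Function.Injective fun f : Fin 16 =>
      (⟨_, hfix f⟩ : ↥(fixOct OZ)) := by
    intro f f' he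
    have he' : Out1.perm (θ (F f)) = Out1.perm (θ (F f')) := Subtype.ext (congrArg Subtype.val he :)
    have h1 : Out1.perm (θ (F f * (F f')⁻¹)) = 1 := by rw [map_mul, map_mul, map_inv, map_inv, he', mul_inv_cancel]
    have h2 : sf f * (sf f')⁻¹ ∈ AJ Q π := (T.ker _).mp h1
    rw [h.sf_inv S f'.2, ← S.f_mul f f.2 f' f'.2] at h2
    have hx := xor_lt16 f.2 f'.2
    have h3 := (h.AJ_Q h2 (S.f_mem _ hx)).2
    rw [S.f_π _ hx, (lN_vV (by norm_num) hx).2] at h3
    exact Fin.ext (Nat.xor_eq_zero_iff.mp h3)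
  have hcard := (card_fixOct OZ_octad).1
  have : Finite ↥(fixOct OZ) := Nat.finite_of_card_ne_zero (by rw [hcard]; norm_num)
  have hpsurj := ((Nat.bijective_iff_injective_and_card _).mpr
    ⟨hperminj, by rw [hcard, Nat.card_eq_fintype_card, Fintype.card_fin]⟩).2
  let P := Q0.comap (Out1.NI.subtype.comp θ.toMonoidHom)
  have memP : ∀ m : ↥N, m ∈ P ↔ (θ m : Spor.Co1) ∈ Q0 := fun m => Iff.rfl
  let R : ℕ → ℕ → Prop := fun f m => ∃ n < 2048, n / 16 % 64 = m ∧
    ∃ p ∈ P, (p : G) = Ln e n * sf f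
  -- membership inside the elementary subgroup
  have hPA : ∀ p ∈ P, ∀ n < 2048, (p : G) = Ln e n → n / 16 % 64 = 0 := by
    intro p hp n hn hpn
    have hw := (memP p).mp hp
    rw [T.num p n hn hpn, wS_eq hn] at hw
    obtain ⟨σ, c, hc, he, -, hsk⟩ := D.shape _ hw
    obtain ⟨-, hor⟩ := Out1.el_eq.mp he
    have hsk' : SKo OZ (toSet (wordC n)) := by
      refine ⟨word_CW hn, ?_⟩
      rcases hor with r | r
      · have hr : toSet (wordC n) = c := r.symm
        rw [hr]; exact hsk.2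
      · have hr : toSet (wordC n) = cᶜ := by rw [r, compl_compl]
        rw [hr]
        rcases hsk.2 with q | q
        · right
          ext i
          have := Finset.ext_iff.mp q i
          simp only [Finset.mem_inter, Finset.notMem_empty, iff_false, Finset.mem_compl] at this ⊢
          tauto
        · left
          ext i
          have := Finset.ext_iff.mp q i
          simp only [Finset.mem_inter, Finset.notMem_empty, iff_false, Finset.mem_compl] at this ⊢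
          tauto
    have hk := el_check n hn
    rw [(word_sko.mp hsk').2, eq_comm, beq_iff_eq] at hk
    exact hk
  -- every element of the image
  have hshape : ∀ p ∈ P, ∃ f < 16, ∃ n < 2048, (p : G) = Ln e n * sf f := by
    intro p hp
    obtain ⟨σ, c, hc, he, hσ, -⟩ := D.shape _ ((memP p).mp hp)
    obtain ⟨f, hf⟩ := hpsurj ⟨_, hσ⟩
    have h1 : Out1.perm (θ (p * (F f)⁻¹)) = 1 := by
      rw [map_mul, map_mul, map_inv, map_inv, mul_inv_eq_one, Out1.perm_el he]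
      exact Subtype.ext (congrArg Subtype.val hf).symm
    obtain ⟨n, hn, hn'⟩ := H.Ln_surj S C ((T.ker _).mp h1)
    exact ⟨f, f.2, n, hn, by rw [hn', Subgroup.coe_mul, InvMemClass.coe_inv, inv_mul_cancel_right]⟩
  have hex : ∀ f < 16, ∃ m < 64, R f m := by
    intro f hf
    let s : ↥Out1.NI := ⟨Out1.sec (Out1.perm (θ (F ⟨f, hf⟩))), by rw [Out1.sec_apply]; exact Out1.el_mem _ _⟩
    have hs : θ.symm s ∈ P := by
      rw [memP, MulEquiv.apply_symm_apply]
      exact D.sec_mem _ (hfix _)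
    have h1 : Out1.perm (θ (θ.symm s * (F ⟨f, hf⟩)⁻¹)) = 1 := by
      rw [map_mul, map_mul, map_inv, map_inv, MulEquiv.apply_symm_apply, mul_inv_eq_one]
      exact Out1.perm_el (hc := CW_empty) (Out1.sec_apply _)
    obtain ⟨n, hn, hn'⟩ := H.Ln_surj S C ((T.ker _).mp h1)
    refine ⟨_, Nat.mod_lt _ (by norm_num), n, hn, rfl, θ.symm s, hs, ?_⟩
    rw [hn', Subgroup.coe_mul, InvMemClass.coe_inv]
    exact (inv_mul_cancel_right _ _).symm
  have huniq : ∀ f < 16, ∀ m m', R f m → R f m' → m = m' := by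
    rintro f hf m m' ⟨n, hn, rfl, p, hp, hpe⟩ ⟨n', hn', rfl, p', hp', hpe'⟩
    have hnn : n ^^^ n' < 2048 := Nat.xor_lt_two_pow (n := 11) hn hn'
    have := hPA (p * p'⁻¹) (mul_mem hp (inv_mem hp')) _ hnn (by
      rw [Subgroup.coe_mul, InvMemClass.coe_inv, hpe, hpe', mul_inv_rev, mul_assoc, mul_inv_cancel_left,
        inv_eq_of_mul_eq_one_right (H.AJ_sq (H.Ln_mem S C n')), ← H.Ln_xor S C])
    rw [cls_xor] at this
    exact Nat.xor_eq_zero_iff.mp this
  have hadd : ∀ f < 16, ∀ f' < 16, ∀ m m', R f m → R f' m' → R (f ^^^ f') (m ^^^ m') := by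
    rintro f hf f' hf' m m' ⟨n, hn, rfl, p, hp, hpe⟩ ⟨n', hn', rfl, p', hp', hpe'⟩
    obtain ⟨n2, hn2, e2, c2, -⟩ := H.sf_conj S C hf hn'
    refine ⟨n ^^^ n2, Nat.xor_lt_two_pow (n := 11) hn hn2, ?_, p * p', mul_mem hp hp', ?_⟩
    · rw [cls_xor, c2]
    · rw [Subgroup.coe_mul, hpe, hpe', H.Ln_xor S C, ← e2, S.f_mul f hf f' hf']
      group
  obtain ⟨c, hcz, hcN, hcl, hcf⟩ := H.gen_conj_sf S C
  have hzN : z ∈ N := Subgroup.le_normalizer (h.EL_le h.EL_z)
  have hθz : (θ ⟨z, hzN⟩ : Spor.Co1) = z0 := by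
    rw [T.num ⟨z, hzN⟩ 1024 (by norm_num) (H.Ln_top S C).symm, wS_top]
    rfl
  have hgen : ∀ f < 16, ∀ m, R f m → R (gB 0 f) (gM 0 m) := by
    rintro f hf m ⟨n, hn, rfl, p, hp, hpe⟩
    obtain ⟨n1, hn1, e1, c1⟩ := hcl n hn
    obtain ⟨n2, hn2, c2, e2⟩ := hcf f hf
    have hconj : ⟨c, hcN⟩ * p * ⟨c, hcN⟩⁻¹ ∈ P := by
      rw [memP, map_mul, map_mul, map_inv]
      simp only [Subgroup.coe_mul, InvMemClass.coe_inv]
      refine D.st.es.nor _ ?_ _ ((memP p).mp hp)
      have e := congrArg Subtype.val (congrArg θ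
        (show (⟨c, hcN⟩ : ↥N) * ⟨z, hzN⟩ = ⟨z, hzN⟩ * ⟨c, hcN⟩ from Subtype.ext hcz))
      rw [map_mul, map_mul, Subgroup.coe_mul, Subgroup.coe_mul, hθz] at e
      exact e
    refine ⟨n1 ^^^ n2, Nat.xor_lt_two_pow (n := 11) hn1 hn2, ?_, _, hconj, ?_⟩
    · rw [cls_xor, c1, c2, Nat.xor_zero]
    · simp only [Subgroup.coe_mul, InvMemClass.coe_inv, hpe]
      rw [H.Ln_xor S C, ← e1, mul_assoc (c * Ln e n * c⁻¹), ← e2]
      group
  -- the classes vanish
  have hB : ∀ k, (gB 0)^[k] 1 < 16 := fun k => by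
    induction k with
    | zero => norm_num
    | succ k ih => rw [Function.iterate_succ_apply']; exact (gen_lev (j := 0) (by norm_num)).ltB _ ih
  obtain ⟨m1, hm1, hR1⟩ := hex 1 (by norm_num)
  have hiter : ∀ k, R ((gB 0)^[k] 1) ((gM 0)^[k] m1) := fun k => by
    induction k with
    | zero => exact hR1
    | succ k ih => rw [Function.iterate_succ_apply', Function.iterate_succ_apply']; exact hgen _ (hB k) _ ih
  have hm0 : m1 = 0 := by
    refine gM_rigid.1 m1 hm1 (huniq _ (hB 4) _ _ (hiter 4) ?_)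
    rw [gM_rigid.2]
    exact hadd _ (hB 3) _ (by norm_num) _ _ (hiter 3) hR1
  subst hm0
  have hM0 : ∀ k, (gM 0)^[k] 0 = 0 := fun k => Function.iterate_fixed (by decide +kernel) k
  have hR0 : ∀ f < 16, ∀ m, R f m → m = 0 := by
    intro f hf m hm
    rcases gB_orbit f hf with rfl | ⟨k, -, rfl⟩
    · refine huniq 0 hf _ _ hm ?_
      obtain ⟨m', hm', r⟩ := hex 0 hf
      have := hadd 0 hf 0 hf _ _ r r
      rwa [Nat.xor_self, Nat.xor_self] at this
    · exact (huniq _ hf _ _ hm (hiter k)).trans (hM0 k)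
  have hPQ : ∀ p ∈ P, (p : G) ∈ Q := by
    intro p hp
    obtain ⟨f, hf, n, hn, hpe⟩ := hshape p hp
    rw [hpe]
    exact mul_mem ((H.Ln_Q_iff S C hn).mpr (hR0 f hf _ ⟨n, hn, rfl, p, hp, hpe⟩)) (S.f_mem f hf)
  have hQ0N : Q0 ≤ Out1.NI := fun a ha => by
    obtain ⟨σ, c, hc, rfl, -⟩ := D.shape a ha
    exact Out1.el_mem _ _
  have hcP : Nat.card ↥P = 512 := by
    rw [← D.st.card]
    refine Nat.card_congr (Equiv.ofBijective (fun p : ↥P => (⟨(θ p.1 : Spor.Co1), p.2⟩ : ↥Q0))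
      ⟨fun a b r => Subtype.ext (θ.injective (Subtype.ext (congrArg Subtype.val r :))), fun a => ?_⟩)
    refine ⟨⟨θ.symm ⟨a, hQ0N a.2⟩, ?_⟩, ?_⟩
    · rw [memP, MulEquiv.apply_symm_apply]; exact a.2
    · exact Subtype.ext (by simp)
  have hPeq : P = Q.subgroupOf N := by
    refine Subgroup.eq_of_le_of_card_ge (fun p hp => hPQ p hp) ?_
    rw [hcP, Nat.card_congr (Subgroup.subgroupOfEquivOfLe (H.Q_le_N S C)).toEquiv, h.card]
  intro m
  rw [← memP, hPeq]
  exact Subgroup.mem_subgroupOf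

end Good

end CfsgLib.ConwayType
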