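import Cfsg.Agent.Lib.ConwayIso.Top
import Cfsg.Agent.Lib.ConwayIso.Psi
import Cfsg.Agent.Lib.ConwayIso.QImage
import Cfsg.Agent.Lib.ConwayIso.Hom
import Cfsg.Agent.Lib.ConwayJ.Main

/-!
A group of Conway type is the first Conway group.
-/

set_option autoImplicit false
set_option maxHeartbeats 800000

namespace CfsgLib.ConwayType

open Cfsg CfsgLargeExtra CfsgLib.ConwayJ CfsgLib.ConwayIso CfsgLeech
open CfsgLib.HallJankoType (mem_cent conj_fix_iff)

variable {G : Type*} [Group G] [Finite G] {z : G} {Q : Subgroup G} {π : G → V} {M : G → O8}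

theorem ST.exists_iso (h : ST z Q π M) : Nonempty (Spor.Co1 ≃* G) := by
  classical
  have := OctInv.co1_finite
  obtain ⟨π', M', x, g, b, k, w, H⟩ := h.exists_good
  obtain ⟨sl, sf, S⟩ := H.st.exists_sec
  obtain ⟨e, C, hO⟩ := H.exists_oct S
  obtain ⟨θ, T⟩ := H.exists_theta S C hO
  obtain ⟨Q0, π0, M0, D0', himg⟩ := H.exists_image S C hO T
  obtain ⟨Ψ, hΨ⟩ := H.exists_psi S C T D0' himg
  let N := Subgroup.normalizer (AJ Q π' : Set G)
  have hzN : z ∈ N := Subgroup.le_normalizer (H.st.EL_le H.st.EL_z)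
  have hθz : (θ ⟨z, hzN⟩ : Spor.Co1) = z0 := by
    rw [T.num _ 1024 (by norm_num) (H.Ln_top S C).symm, wS_top]
    rfl
  let ι : ↥Out1.NI →* G := N.subtype.comp θ.symm.toMonoidHom
  let ψ : ↥(Subgroup.centralizer ({z0} : Set Spor.Co1)) →* G :=
    (Subgroup.centralizer ({z} : Set G)).subtype.comp Ψ.symm.toMonoidHom
  have hcoe : ∀ c, ψ c = (Ψ.symm c : G) := fun _ => rfl
  have hψz : ψ ⟨z0, mem_cent.mpr rfl⟩ = z := by
    rw [hcoe, show (⟨z0, mem_cent.mpr rfl⟩ : ↥(Subgroup.centralizer ({z0} : Set Spor.Co1))) =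
      Ψ ⟨z, mem_cent.mpr rfl⟩ from Subtype.ext (hθz.symm.trans (hΨ ⟨z, hzN⟩ rfl).symm), MulEquiv.symm_apply_apply]
  have E : Emb ι ψ := by
    refine ⟨Subtype.val_injective.comp θ.symm.injective, Subtype.val_injective.comp Ψ.symm.injective, ?_, ?_⟩
    · intro n hn
      have hcz : (θ.symm n : G) * z = z * (θ.symm n : G) := by
        refine congrArg Subtype.val (θ.injective (Subtype.ext ?_) : θ.symm n * ⟨z, hzN⟩ = ⟨z, hzN⟩ * θ.symm n)
        rw [map_mul, map_mul, MulEquiv.apply_symm_apply, Subgroup.coe_mul, Subgroup.coe_mul, hθz]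
        exact mem_cent.mp hn
      rw [hcoe, show (⟨(n : Spor.Co1), hn⟩ : ↥(Subgroup.centralizer ({z0} : Set Spor.Co1))) =
        Ψ ⟨(θ.symm n : G), mem_cent.mpr hcz⟩ from Subtype.ext (by rw [hΨ _ hcz, MulEquiv.apply_symm_apply]),
        MulEquiv.symm_apply_apply]
      rfl
    · intro a ha
      rw [hψz] at ha
      exact ⟨Ψ ⟨a, mem_cent.mpr ha⟩, congrArg Subtype.val (Ψ.symm_apply_apply _)⟩
  obtain ⟨K, φ, hcent, -, hψK⟩ := E.exists_iso
  let j : Spor.Co1 →* G := K.subtype.comp φ.symm.toMonoidHom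
  have hj : Function.Injective j := Subtype.val_injective.comp φ.symm.injective
  obtain ⟨hzK, hφz⟩ := hψK ⟨z0, mem_cent.mpr rfl⟩
  have hjz : j z0 = ψ ⟨z0, mem_cent.mpr rfl⟩ :=
    congrArg Subtype.val ((congrArg φ.symm hφz.symm).trans (φ.symm_apply_apply _))
  have htop := range_top j hj fun a ha => by
    rw [hjz] at ha
    exact ⟨φ ⟨a, hcent a ha⟩, congrArg Subtype.val (φ.symm_apply_apply _)⟩
  exact ⟨MulEquiv.ofBijective j ⟨hj, MonoidHom.range_eq_top.mp htop⟩⟩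

end CfsgLib.ConwayType
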