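import Cfsg.Agent.Lib.ConwayJ.Action

/-!
Groups of Conway type: how the normalizer permutes the words of the elementary subgroup.
-/

set_option autoImplicit false
set_option linter.unusedSectionVars false
set_option maxHeartbeats 400000

namespace CfsgLib.ConwayType

open QuadraticMap Module CfsgLargeExtra CfsgLib.ConwayJ CfsgLib.Fi24J
open CfsgLib.HallJankoType (mem_cent conj_fix_iff)

attribute [local irreducible] maskT pairN octM

variable {G : Type*} [Group G] [Finite G] {z : G} {Q : Subgroup G} {π : G → V} {M : G → O8} {sl sf e : ℕ → G}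

namespace Good

variable {x g b k w : G} (H : Good z Q π M x g b k w) (S : Sec Q π sl sf) (C : Crd z Q π M sl sf e)
include H S C

/-- The permutation of the places made by an element of the normalizer. -/
theorem action_eq (hO : ∀ n < 2048, InO z Q π (Ln e n) ↔ octM.testBit n = true) :
    ∃ τ : ↥(Subgroup.normalizer (AJ Q π : Set G)) →* ↥Cfsg.M24,
      τ.ker = (AJ Q π).subgroupOf (Subgroup.normalizer (AJ Q π : Set G)) ∧
      ∀ (m : ↥(Subgroup.normalizer (AJ Q π : Set G))) a b, a < 2048 → b < 2048 → (m : G) * Ln e a * (m : G)⁻¹ = Ln e b →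
        ∀ p q, prN 11 b (pairU ((τ m : Equiv.Perm Cfsg.GolayPt) p) ((τ m : Equiv.Perm Cfsg.GolayPt) q)) =
          prN 11 a (pairU p q) := by
  classical
  obtain ⟨t, ht, htmul⟩ := H.exists_tr S C
  let N := Subgroup.normalizer (AJ Q π : Set G)
  have hN : N = Subgroup.normalizer (AJ Q π : Set G) := rfl
  have t1 : t 1 = 1 := by
    have := htmul 1 1
    rw [one_mul] at this
    exact mul_eq_left.mp this.symm
  have inj : ∀ {a b : Fin 2048}, Ln e a = Ln e b → a = b := fun r => Fin.ext (H.Ln_inj S C (Fin.is_lt _) (Fin.is_lt _) r)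
  have tx : ∀ (m : ↥N) (a b : ℕ) (ha : a < 2048) (hb : b < 2048),
      (t m ⟨a ^^^ b, Nat.xor_lt_two_pow (n := 11) ha hb⟩).val = (t m ⟨a, ha⟩).val ^^^ (t m ⟨b, hb⟩).val := by
    intro m a b ha hb
    refine H.Ln_inj S C (Fin.is_lt _) (Nat.xor_lt_two_pow (n := 11) (Fin.is_lt _) (Fin.is_lt _)) ?_
    rw [ht, H.Ln_xor S C, H.Ln_xor S C, ht, ht]
    group
  let pf : ↥N → ℕ → ℕ → Bool := fun m u n => if hn : n < 2048 then prN 11 (t m⁻¹ ⟨n, hn⟩).val u else false
  let du : ↥N → Fin 2048 → Fin 2048 := fun m u => ⟨repU (pf m u), repU_lt _⟩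
  have du_spec : ∀ m (u n : Fin 2048), prN 11 n (du m u).val = prN 11 (t m⁻¹ n).val u := by
    intro m u n
    show prN 11 n.val (repU (pf m u)) = _
    rw [repU_spec (fun a ha c hc => ?_) n.2]
    · simp only [pf, dif_pos n.2, Fin.eta]
    · simp only [pf, dif_pos ha, dif_pos hc, dif_pos (Nat.xor_lt_two_pow (n := 11) ha hc)]
      rw [tx, prN_xor]
  have du_ext : ∀ {u v : Fin 2048}, (∀ n : Fin 2048, prN 11 n u = prN 11 n v) → u = v := fun {u v} r =>
    Fin.ext (prN_ext u.2 v.2 fun n hn => r ⟨n, hn⟩)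
  have du_mul : ∀ m m' u, du (m * m') u = du m (du m' u) := fun m m' u => du_ext fun n => by
    rw [du_spec, du_spec, du_spec, mul_inv_rev, htmul]; rfl
  have du_one : ∀ u, du 1 u = u := fun u => du_ext fun n => by
    rw [du_spec, inv_one, t1]; rfl
  have du_xor : ∀ m (a b : Fin 2048), (du m ⟨a.val ^^^ b.val, Nat.xor_lt_two_pow (n := 11) a.2 b.2⟩).val =
      (du m a).val ^^^ (du m b).val := fun m a c => prN_ext (Fin.is_lt _)
        (Nat.xor_lt_two_pow (n := 11) (Fin.is_lt _) (Fin.is_lt _)) fun n hn => by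
    rw [prN_xor_right, du_spec m _ ⟨n, hn⟩, du_spec m a ⟨n, hn⟩, du_spec m c ⟨n, hn⟩]
    exact prN_xor_right 11 _ _ _
  let E := Equiv.ofBijective vecU vecU_bij
  let dperm : ↥N →* Equiv.Perm (Fin 2048) :=
    MonoidHom.mk' (fun m => ⟨du m, du m⁻¹, fun u => by rw [← du_mul, inv_mul_cancel, du_one],
      fun u => by rw [← du_mul, mul_inv_cancel, du_one]⟩) fun m m' => Equiv.ext fun u => du_mul m m' u
  let ρ : ↥N →* Equiv.Perm V11 := (E.permCongrHom.toMonoidHom).comp dperm
  have hρ : ∀ m u, ρ m (vecU u) = vecU (du m u) := fun m u => by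
    show E (du m (E.symm (E u))) = _
    rw [Equiv.symm_apply_apply]
    rfl
  have hadd : ∀ m u v, ρ m (u + v) = ρ m u + ρ m v := by
    intro m u v
    obtain ⟨a, rfl⟩ := vecU_bij.2 u
    obtain ⟨c, rfl⟩ := vecU_bij.2 v
    rw [← vecU_xor a.2 c.2, hρ, hρ, hρ, ← vecU_xor (du m a).2 (du m c).2]
    exact congrArg vecU (Fin.ext (du_xor m a c))
  have hOinv : ∀ (m : ↥N) (n : Fin 2048), octM.testBit (t m n).val = octM.testBit n.val := by
    intro m n
    have h1 := hO _ (t m n).2
    rw [ht, InO.conj_iff m.2, hO _ n.2] at h1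
    exact (Bool.eq_iff_iff.mpr h1).symm
  have cnt : ∀ u : ℕ, (List.range 2048).countP (fun n => octM.testBit n && prN 11 n u) =
      (Finset.univ.filter fun n : Fin 2048 => (octM.testBit n.val && prN 11 n.val u) = true).card := by
    intro u
    rw [← countP_range 2048, Finset.card_filter, Finset.card_filter,
      ← Fin.sum_univ_eq_sum_range (fun n => if (octM.testBit n && prN 11 n u) = true then 1 else 0) 2048]
  have hduad : ∀ m v, IsDuad v → IsDuad (ρ m v) := by
    intro m v hv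
    obtain ⟨u, rfl⟩ := vecU_bij.2 v
    rw [hρ, isDuad_vecU, ← duad_count (du m u).2, cnt]
    rw [isDuad_vecU, ← duad_count u.2, cnt] at hv
    rw [← hv]
    refine Finset.card_bij (fun n _ => t m⁻¹ n) (fun n hn => ?_) (fun a _ c _ r => (t m⁻¹).injective r) fun n hn => ?_
    · simp only [Finset.mem_filter, Finset.mem_univ, true_and] at hn ⊢
      rw [hOinv, ← du_spec]; exact hn
    · refine ⟨t m n, ?_, ?_⟩
      · simp only [Finset.mem_filter, Finset.mem_univ, true_and] at hn ⊢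
        rw [du_spec, hOinv, show t m⁻¹ (t m n) = n by rw [← Equiv.Perm.mul_apply, ← htmul, inv_mul_cancel, t1]; rfl]
        exact hn
      · rw [← Equiv.Perm.mul_apply, ← htmul, inv_mul_cancel, t1]; rfl
  obtain ⟨τ, hker, hequiv⟩ := exists_hom ρ hadd hduad
  refine ⟨τ, ?_, fun m a c ha hc hac p q => ?_⟩
  · rw [hker]
    ext m
    rw [MonoidHom.mem_ker, Subgroup.mem_subgroupOf]
    constructor
    · intro hm
      have hdu : ∀ u, du m u = u := fun u => vecU_bij.1 (by rw [← hρ, hm]; rfl)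
      have htm : ∀ n, t m⁻¹ n = n := fun n => Fin.ext (prN_ext (Fin.is_lt _) n.2 fun u hu => by
        rw [prN_comm 11 u (t m⁻¹ n).val, prN_comm 11 u n.val, ← du_spec m ⟨u, hu⟩ n, hdu])
      refine H.centralizer_AJ (Subgroup.mem_centralizer_iff.mpr fun a ha => ?_)
      obtain ⟨n, hn, rfl⟩ := H.Ln_surj S C ha
      have h1 := ht m⁻¹ ⟨n, hn⟩
      rw [htm, Subgroup.coe_inv, inv_inv] at h1
      calc Ln e n * (m : G) = (m : G) * ((m : G)⁻¹ * Ln e n * (m : G)) := by group
        _ = (m : G) * Ln e n := by rw [← h1]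
    · intro hm
      refine Equiv.ext fun v => ?_
      obtain ⟨u, rfl⟩ := vecU_bij.2 v
      rw [hρ, Equiv.Perm.one_apply]
      refine congrArg vecU (du_ext fun n => ?_)
      rw [du_spec, show t m⁻¹ n = n from inj (by
        rw [ht, Subgroup.coe_inv, inv_inv, H.AJ_comm (inv_mem hm) (H.Ln_mem S C n)]; group)]
  · have he := hequiv m p q
    rw [← vecU_pair p q, hρ] at he
    change vecU (du m ⟨pairU p q, pairU_lt p q⟩) =
      vp ((τ m : Equiv.Perm Cfsg.GolayPt) p) + vp ((τ m : Equiv.Perm Cfsg.GolayPt) q) at he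
    rw [← vecU_pair ((τ m : Equiv.Perm Cfsg.GolayPt) p) ((τ m : Equiv.Perm Cfsg.GolayPt) q)] at he
    have he' : (du m ⟨pairU p q, pairU_lt p q⟩).val =
        pairU ((τ m : Equiv.Perm Cfsg.GolayPt) p) ((τ m : Equiv.Perm Cfsg.GolayPt) q) := congrArg Fin.val (vecU_bij.1 he)
    have htc : t m ⟨a, ha⟩ = (⟨c, hc⟩ : Fin 2048) := inj (by rw [ht]; exact hac)
    have h2 := du_spec m ⟨pairU p q, pairU_lt p q⟩ ⟨c, hc⟩
    rw [← htc, show t m⁻¹ (t m ⟨a, ha⟩) = ⟨a, ha⟩ by rw [← Equiv.Perm.mul_apply, ← htmul, inv_mul_cancel, t1]; rfl,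
      htc, he'] at h2
    exact h2

end Good

end CfsgLib.ConwayType
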