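import Cfsg.Agent.Lib.ConwayIso.Sign
import Cfsg.Agent.Lib.ConwayIso.Perm

/-!
The normalizer of the elementary subgroup as the monomial subgroup of the first Conway group.
-/

set_option autoImplicit false
set_option linter.unusedSectionVars false
set_option maxRecDepth 8000

namespace CfsgLib.ConwayType

open Cfsg QuadraticMap Module CfsgLargeExtra CfsgLib.ConwayJ CfsgLib.ConwayIso CfsgLeech CfsgGolay
open CfsgLib.HallJankoType (mem_cent conj_fix_iff)
open scoped Pointwise

attribute [local irreducible] octM codeL octadL dodecadL slpCodes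

variable {G : Type*} [Group G] [Finite G] {z : G} {Q : Subgroup G} {π : G → V} {M : G → O8} {sl sf e : ℕ → G}

/-- The monomial group seen from a group of Conway type. -/
structure Theta (z : G) (Q : Subgroup G) (π : G → V) (e : ℕ → G)
    (θ : ↥(Subgroup.normalizer (AJ Q π : Set G)) ≃* ↥Out1.NI) : Prop where
  num : ∀ (m : ↥(Subgroup.normalizer (AJ Q π : Set G))) n, n < 2048 → (m : G) = Ln e n → (θ m : Spor.Co1) = wS n
  perm : ∀ (m : ↥(Subgroup.normalizer (AJ Q π : Set G))) a b, a < 2048 → b < 2048 →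
    (m : G) * Ln e a * (m : G)⁻¹ = Ln e b →
      ∀ p q, prN 11 b (pairU ((Out1.perm (θ m) : Equiv.Perm GolayPt) p) ((Out1.perm (θ m) : Equiv.Perm GolayPt) q)) =
        prN 11 a (pairU p q)
  ker : ∀ m, Out1.perm (θ m) = 1 ↔ (m : G) ∈ AJ Q π

namespace Good

variable {x g b k w : G} (H : Good z Q π M x g b k w) (S : Sec Q π sl sf) (C : Crd z Q π M sl sf e)
include H S C

/-- A complement of the elementary subgroup. -/
theorem exists_compl (hO : ∀ n < 2048, InO z Q π (Ln e n) ↔ octM.testBit n = true) :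
    ∃ K : Subgroup ↥(Subgroup.normalizer (AJ Q π : Set G)),
      ((AJ Q π).subgroupOf (Subgroup.normalizer (AJ Q π : Set G))).IsComplement' K := by
  classical
  obtain ⟨τ, -, hker, hcard, -⟩ := H.action S C hO
  let N := Subgroup.normalizer (AJ Q π : Set G)
  haveI hn : ((AJ Q π).subgroupOf N).Normal := hker ▸ inferInstance
  have hA11 : Nat.card (AJ Q π) = 2 ^ 11 := (H.card_AJ S C).trans (by norm_num)
  obtain ⟨W, U, hU, hAU, hWU, hsup, hdisj, hcU⟩ := H.exists_complement S C
  have hUN : U ≤ N := hU.trans inf_le_left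
  have hWN : W ≤ N := hWU.trans hUN
  haveI : IsMulCommutative ↥((AJ Q π).subgroupOf N) := ⟨⟨fun a c =>
    Subtype.ext (Subtype.ext (H.AJ_comm (Subgroup.mem_subgroupOf.mp a.2) (Subgroup.mem_subgroupOf.mp c.2)))⟩⟩
  have hidx : (U.subgroupOf N).index = 759 * 315 := by
    have h1 := (U.subgroupOf N).card_mul_index
    rw [Nat.card_congr (Subgroup.subgroupOfEquivOfLe hUN).toEquiv, hcU, hcard] at h1
    exact Nat.eq_of_mul_eq_mul_left (by norm_num) h1
  refine Cfsg.Agent.S0051.result ((AJ Q π).subgroupOf N) (U.subgroupOf N)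
    (fun a ha => hAU ha) ?_ (W.subgroupOf N) (fun a ha => hWU ha) ?_ ?_
  · rw [hidx, Nat.card_congr (Subgroup.subgroupOfEquivOfLe Subgroup.le_normalizer).toEquiv, hA11]
    exact (Nat.Coprime.pow_left 11 (by norm_num))
  · rw [eq_bot_iff]
    rintro a ⟨haW, haA⟩
    exact Subgroup.mem_bot.mpr (Subtype.ext (hdisj _ haA haW))
  · rw [← Subgroup.subgroupOf_sup Subgroup.le_normalizer hWN, hsup]

theorem exists_theta (hO : ∀ n < 2048, InO z Q π (Ln e n) ↔ octM.testBit n = true) :
    ∃ θ : ↥(Subgroup.normalizer (AJ Q π : Set G)) ≃* ↥Out1.NI, Theta z Q π e θ := by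
  classical
  let N := Subgroup.normalizer (AJ Q π : Set G)
  obtain ⟨τ, hker, hperm⟩ := H.action_eq S C hO
  obtain ⟨K, hK⟩ := H.exists_compl S C hO
  obtain ⟨-, -, -, hcard, -⟩ := H.action S C hO
  have hcardN : Nat.card ↥N = Nat.card ↥Out1.NI := by rw [hcard, Out1.NI_card]; norm_num
  have : Finite ↥Out1.NI := Nat.finite_of_card_ne_zero (by rw [Out1.NI_card]; norm_num)
  -- a section of the permutation action
  let r : ↥K →* ↥Cfsg.M24 := τ.comp K.subtype
  have hr : Function.Bijective r := by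
    have : Finite ↥Cfsg.M24 := inferInstance
    refine (Nat.bijective_iff_injective_and_card r).mpr ⟨?_, ?_⟩
    · rw [injective_iff_map_eq_one]
      intro a ha
      have h1 : (a : ↥N) ∈ (AJ Q π).subgroupOf N := hker ▸ MonoidHom.mem_ker.mpr ha
      exact Subtype.ext (Subgroup.mem_bot.mp (hK.disjoint.le_bot ⟨h1, a.2⟩))
    · have h := hK.card_mul_card
      rw [Nat.card_congr (Subgroup.subgroupOfEquivOfLe Subgroup.le_normalizer).toEquiv, H.card_AJ S C, hcard] at h
      rw [CfsgGolay.card_M24]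
      omega
  let re := MulEquiv.ofBijective r hr
  let s : ↥Cfsg.M24 →* ↥N := K.subtype.comp re.symm.toMonoidHom
  have hs : ∀ σ, τ (s σ) = σ := fun σ => re.apply_symm_apply σ
  -- the numbering
  have hidx : ∀ a : G, a ∈ AJ Q π → ∃ n < 2048, Ln e n = a := fun a ha => H.Ln_surj S C ha
  let num : G → ℕ := fun a => if h : a ∈ AJ Q π then (hidx a h).choose else 0
  have num_spec : ∀ a, a ∈ AJ Q π → num a < 2048 ∧ Ln e (num a) = a := fun a h => by
    simp only [num, dif_pos h]
    exact (hidx a h).choose_spec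
  have part : ∀ m : ↥N, ((m * (s (τ m))⁻¹ : ↥N) : G) ∈ AJ Q π := fun m => by
    have : m * (s (τ m))⁻¹ ∈ τ.ker := by rw [MonoidHom.mem_ker, map_mul, map_inv, hs, mul_inv_cancel]
    rwa [hker] at this
  let J : ↥N → Spor.Co1 := fun m => wS (num ((m * (s (τ m))⁻¹ : ↥N) : G))
  have wS_num : ∀ {a : G} (ha : a ∈ AJ Q π) {n : ℕ}, n < 2048 → Ln e n = a → num a = n := fun {a} ha {n} hn e' =>
    H.Ln_inj S C (num_spec a ha).1 hn ((num_spec a ha).2.trans e'.symm)
  have hJmul : ∀ m m', J (m * m') = J m * (Out1.sec (τ m) * J m' * (Out1.sec (τ m))⁻¹) := by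
    intro m m'
    have hp := part m
    have hp' := part m'
    have hc : ((s (τ m) * (m' * (s (τ m'))⁻¹) * (s (τ m))⁻¹ : ↥N) : G) ∈ AJ Q π := by
      rw [Subgroup.coe_mul, Subgroup.coe_mul, InvMemClass.coe_inv]
      exact (Subgroup.mem_normalizer_iff.mp (s (τ m)).2 _).mp hp'
    obtain ⟨c1, c2⟩ := num_spec _ hc
    obtain ⟨a1, a2⟩ := num_spec _ hp
    obtain ⟨b1, b2⟩ := num_spec _ hp'
    have e0 : Out1.sec (τ m) * J m' * (Out1.sec (τ m))⁻¹ =
        wS (num ((s (τ m) * (m' * (s (τ m'))⁻¹) * (s (τ m))⁻¹ : ↥N) : G)) := by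
      refine wS_conj b1 c1 fun p q => ?_
      have h := hperm (s (τ m)) _ _ b1 c1 (by
        rw [b2, c2]; simp only [Subgroup.coe_mul, InvMemClass.coe_inv]) p q
      rwa [hs] at h
    rw [e0]
    show wS _ = wS _ * wS _
    rw [← wS_xor a1 c1]
    congr 1
    refine wS_num (part _) (Nat.xor_lt_two_pow (n := 11) a1 c1) ?_
    rw [H.Ln_xor S C, a2, c2, map_mul, map_mul, ← Subgroup.coe_mul]
    exact congrArg Subtype.val (by group)
  let θ0 : ↥N →* ↥Out1.NI :=
    MonoidHom.mk' (fun m => ⟨J m * Out1.sec (τ m), mul_mem (wS_mem _) (by rw [Out1.sec_apply]; exact Out1.el_mem _ _)⟩)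
      fun m m' => Subtype.ext (by
        show J (m * m') * Out1.sec (τ (m * m')) = J m * Out1.sec (τ m) * (J m' * Out1.sec (τ m'))
        rw [hJmul, map_mul, map_mul]
        group)
  have hθ : ∀ m, (θ0 m : Spor.Co1) = J m * Out1.sec (τ m) := fun _ => rfl
  have hperm1 : ∀ m, Out1.perm (θ0 m) = τ m := by
    intro m
    have hn := (num_spec _ (part m)).1
    refine Out1.perm_el (c := toSet (wordC (num ((m * (s (τ m))⁻¹ : ↥N) : G)))) (hc := word_CW hn) ?_
    rw [hθ, Out1.el_split]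
    exact congrArg (· * Out1.sec (τ m)) (wS_eq hn)
  have hnum : ∀ (m : ↥N) n, n < 2048 → (m : G) = Ln e n → (θ0 m : Spor.Co1) = wS n := by
    intro m n hn hm
    have h1 : τ m = 1 := by
      rw [← MonoidHom.mem_ker, hker, Subgroup.mem_subgroupOf, hm]
      exact H.Ln_mem S C n
    rw [hθ, h1, map_one, mul_one]
    show wS _ = wS n
    congr 1
    refine wS_num (part m) hn ?_
    rw [h1, map_one, inv_one, mul_one, hm]
  have hinj : Function.Injective θ0 := by
    rw [injective_iff_map_eq_one]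
    intro m hm
    have h1 : τ m = 1 := by rw [← hperm1, hm, map_one]
    have h2 : (m : G) ∈ AJ Q π := by
      rw [← MonoidHom.mem_ker, hker] at h1
      exact h1
    obtain ⟨n1, n2⟩ := num_spec _ h2
    have h3 := hnum m _ n1 n2.symm
    rw [hm, OneMemClass.coe_one] at h3
    exact Subtype.ext (by rw [← n2, wS_one n1 h3.symm]; exact H.Ln_zero S C)
  refine ⟨MulEquiv.ofBijective θ0 ((Nat.bijective_iff_injective_and_card θ0).mpr ⟨hinj, hcardN⟩), ⟨hnum, ?_, ?_⟩⟩
  · intro m a c ha hc hac p q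
    show prN 11 c (pairU ((Out1.perm (θ0 m) : Equiv.Perm GolayPt) p) _) = _
    rw [MulEquiv.ofBijective_apply, hperm1]
    exact hperm m a c ha hc hac p q
  · intro m
    show Out1.perm (θ0 m) = 1 ↔ _
    rw [hperm1, ← MonoidHom.mem_ker, hker]
    exact Subgroup.mem_subgroupOf

end Good

end CfsgLib.ConwayType
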